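import Groth.Agent.VarDim.Basic
import Mathlib.Order.Cover

/-!
# Saturated chains of primes in finitely generated algebras over a field
-/

namespace Groth.Agent.VarDim

open Order

universe u

variable (k : Type u) [Field k] {A : Type u} [CommRing A] [Algebra k A] [Algebra.FiniteType k A]

include k in
theorem coheight_ne_top (p : PrimeSpectrum A) : coheight p ≠ ⊤ := fun h => by
  obtain ⟨n, hn, -⟩ := exists_dim_eq_trdeg k (A ⧸ p.asIdeal)
  have := coheight_eq_ringKrullDim_quotient p
  rw [h, hn] at this
  exact absurd (WithBot.coe_inj.1 this) (by simp)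

include k in
/-- **Covering primes drop the dimension by exactly one.** -/
theorem coheight_of_covBy {q p : PrimeSpectrum A} (h : q ⋖ p) : coheight q = coheight p + 1 := by
  refine le_antisymm ?_ (coheight_add_one_le h.lt)
  obtain ⟨n, hn, -⟩ := exists_dim_eq_trdeg k (A ⧸ q.asIdeal)
  let π : A →+* A ⧸ q.asIdeal := Ideal.Quotient.mk _
  have hmono : StrictMono (PrimeSpectrum.comap π) :=
    RingHom.strictMono_comap_of_surjective Ideal.Quotient.mk_surjective
  let p' : PrimeSpectrum (A ⧸ q.asIdeal) := ⟨p.asIdeal.map π,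
    Ideal.map_isPrime_of_surjective Ideal.Quotient.mk_surjective
      (by rw [Ideal.mk_ker]; exact h.lt.le)⟩
  have hp' : PrimeSpectrum.comap π p' = p := PrimeSpectrum.ext (by
    show (p.asIdeal.map π).comap π = p.asIdeal
    rw [Ideal.comap_map_of_surjective π Ideal.Quotient.mk_surjective, sup_eq_left.2]
    rw [← RingHom.ker_eq_comap_bot, Ideal.mk_ker]
    exact h.lt.le)
  have hge : ∀ r, q ≤ PrimeSpectrum.comap π r := fun r =>
    show q.asIdeal ≤ r.asIdeal.comap π from fun x hx => by
      rw [Ideal.mem_comap, Ideal.Quotient.eq_zero_iff_mem.2 hx]; exact zero_mem _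
  have h1 : height p' ≤ 1 := by
    refine height_le fun l hl => ?_
    by_contra hlen
    push Not at hlen
    have hlen' : 1 < l.length := by exact_mod_cast hlen
    have hlast : l ⟨l.length, by omega⟩ = p' := hl
    have ha : PrimeSpectrum.comap π (l ⟨0, by omega⟩) < PrimeSpectrum.comap π (l ⟨1, by omega⟩) :=
      hmono (l.strictMono (show (⟨0, _⟩ : Fin _) < ⟨1, _⟩ from Nat.zero_lt_one))
    have hb : PrimeSpectrum.comap π (l ⟨1, by omega⟩) < p := by
      rw [← hp', ← hlast]
      exact hmono (l.strictMono (show (⟨1, _⟩ : Fin _) < ⟨l.length, _⟩ from hlen'))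
    exact h.2 (lt_of_le_of_lt (hge _) ha) hb
  have h2 : coheight p' ≤ coheight p := hp' ▸ coheight_le_coheight_apply_of_strictMono _ hmono p'
  have hform := height_add_coheight_eq k n (A ⧸ q.asIdeal) hn p'
  have hq : coheight q = n := WithBot.coe_inj.1 ((coheight_eq_ringKrullDim_quotient q).trans hn)
  rw [hq, ← hform, add_comm (height p')]
  exact add_le_add h2 h1

include k in
theorem exists_covBy {q p : PrimeSpectrum A} (h : q < p) : ∃ r, q ⋖ r ∧ r ≤ p := by
  suffices ∀ n : ℕ, ∀ p : PrimeSpectrum A, q < p → (coheight q : ℕ∞) ≤ coheight p + n →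
      ∃ r, q ⋖ r ∧ r ≤ p by
    obtain ⟨n, hn⟩ := ENat.ne_top_iff_exists.1 (coheight_ne_top k q)
    exact this n p h (by rw [← hn]; exact le_add_self)
  intro n
  induction n with
  | zero =>
    intro p h hle
    have h1 := coheight_add_one_le h
    rw [Nat.cast_zero, add_zero] at hle
    exact absurd ((ENat.add_one_le_iff (coheight_ne_top k p)).1 (h1.trans hle)) (lt_irrefl _)
  | succ n ih =>
    intro p h hle
    by_cases hc : q ⋖ p
    · exact ⟨p, hc, le_rfl⟩
    · obtain ⟨r, hqr, hrp⟩ := exists_lt_lt_of_not_covBy h hc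
      obtain ⟨r', h1, h2⟩ := ih r hqr (hle.trans (by
        have h3 := add_le_add_right (coheight_add_one_le hrp) (n : ℕ∞)
        rw [Nat.cast_succ, ← add_assoc, add_right_comm]
        rw [add_comm (coheight p + 1), add_comm (coheight r)]
        exact h3))
      exact ⟨r', h1, h2.trans hrp.le⟩

include k in
/-- Along inclusions of primes, `height + coheight` is monotone. -/
theorem height_add_coheight_mono {q p : PrimeSpectrum A} (h : q ≤ p) :
    height q + coheight q ≤ height p + coheight p := by
  obtain ⟨n, hn⟩ := ENat.ne_top_iff_exists.1 (coheight_ne_top k q)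
  clear hn
  suffices ∀ n : ℕ, ∀ q : PrimeSpectrum A, q ≤ p → coheight q = n →
      height q + coheight q ≤ height p + coheight p by
    obtain ⟨n, hn⟩ := ENat.ne_top_iff_exists.1 (coheight_ne_top k q)
    exact this n q h hn.symm
  intro n
  induction n using Nat.strong_induction_on with
  | h n ih =>
    intro q h hn
    rcases h.eq_or_lt with rfl | hlt
    · exact le_rfl
    obtain ⟨r, hqr, hrp⟩ := exists_covBy k hlt
    obtain ⟨m, hm⟩ := ENat.ne_top_iff_exists.1 (coheight_ne_top k r)
    have hc := coheight_of_covBy k hqr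
    have hmn : m + 1 = n := by
      rw [hn, ← hm] at hc
      exact_mod_cast hc.symm
    refine le_trans ?_ (ih m (by omega) r hrp hm.symm)
    rw [hc, add_comm (coheight r) 1, ← add_assoc]
    exact add_le_add_left (height_add_one_le hqr.lt) _

include k in
/-- A saturated chain of primes has length the drop of dimension. -/
theorem coheight_head_eq {l : LTSeries (PrimeSpectrum A)}
    (hsat : ∀ i : Fin l.length, l i.castSucc ⋖ l i.succ) :
    coheight l.head = coheight l.last + l.length := by
  have : ∀ j : ℕ, ∀ hj : j < l.length + 1, coheight l.head = coheight (l ⟨j, hj⟩) + j := by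
    intro j
    induction j with
    | zero => intro hj; rw [Nat.cast_zero, add_zero]; rfl
    | succ j ih =>
      intro hj
      rw [ih (by omega), coheight_of_covBy k (q := l ⟨j, by omega⟩) (p := l ⟨j + 1, hj⟩) (hsat ⟨j, by omega⟩),
        Nat.cast_succ, add_assoc, add_comm (1 : ℕ∞)]
  exact this l.length (by omega)

end Groth.Agent.VarDim
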