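import Groth.Agent.VarDim.Top
import Groth.Agent.VarDim.Catenary

/-!
# Local dimension at a point
-/

namespace Groth.Agent.VarDim

open AlgebraicGeometry CategoryTheory Order TopologicalSpace

universe u

variable {k : Type u} [Field k] {X : Scheme.{u}} (f : X ⟶ Spec (CommRingCat.of k))
  [LocallyOfFiniteType f]

omit [LocallyOfFiniteType f] in
theorem exists_fromSpec_eq {U : X.Opens} (hU : IsAffineOpen U) {x : X} (hx : x ∈ U) :
    ∃ p : PrimeSpectrum Γ(X, U), hU.fromSpec p = x :=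
  show x ∈ Set.range hU.fromSpec by rw [hU.range_fromSpec]; exact hx

omit [LocallyOfFiniteType f] in
theorem fromSpec_mem {U : X.Opens} (hU : IsAffineOpen U) (p : PrimeSpectrum Γ(X, U)) :
    hU.fromSpec p ∈ U := by
  have : hU.fromSpec p ∈ Set.range hU.fromSpec := ⟨p, rfl⟩
  rwa [hU.range_fromSpec] at this

omit [LocallyOfFiniteType f] in
theorem fromSpec_specializes_iff {U : X.Opens} (hU : IsAffineOpen U) (p q : PrimeSpectrum Γ(X, U)) :
    hU.fromSpec p ⤳ hU.fromSpec q ↔ p ≤ q :=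
  hU.fromSpec.isOpenEmbedding.isInducing.specializes_iff.trans (PrimeSpectrum.le_iff_specializes p q).symm

include f in
/-- The finite-type algebra structure on the sections over an affine open. -/
theorem exists_algebra {U : X.Opens} (hU : IsAffineOpen U) :
    ∃ _ : Algebra k Γ(X, U), Algebra.FiniteType k Γ(X, U) := by
  letI : Algebra k Γ(X, U) :=
    ((X.presheaf.map (homOfLE (le_top (a := U))).op).hom.comp (baseMap f)).toAlgebra
  refine ⟨inferInstance, ?_⟩
  have h := f.finiteType_appLE (isAffineOpen_top (Spec (CommRingCat.of k))) hU (by simp)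
  have h2 : ((f.appLE ⊤ U (by simp)).hom.comp (Scheme.ΓSpecIso (CommRingCat.of k)).inv.hom).FiniteType :=
    h.comp (RingHom.FiniteType.of_surjective _
      (Scheme.ΓSpecIso (CommRingCat.of k)).symm.commRingCatIsoToRingEquiv.surjective)
  exact RingHom.finiteType_algebraMap.1 (show (algebraMap k Γ(X, U)).FiniteType from h2)

theorem deg_of_immediate {x x' : X} (hne : x ≠ x') (hsp : x ⤳ x')
    (himm : ∀ y : X, x ⤳ y → y ⤳ x' → y = x ∨ y = x') : deg f x = deg f x' + 1 := by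
  obtain ⟨U, hU, hx', -⟩ := exists_isAffineOpen_mem_and_subset (x := x') (U := ⊤) trivial
  obtain ⟨q, rfl⟩ := exists_fromSpec_eq hU (hsp.mem_open U.2 hx')
  obtain ⟨p, rfl⟩ := exists_fromSpec_eq hU hx'
  obtain ⟨_, hft⟩ := exists_algebra f hU
  have hinj := hU.fromSpec.isOpenEmbedding.injective
  have hcov : q ⋖ p := ⟨lt_of_le_of_ne ((fromSpec_specializes_iff hU q p).1 hsp) fun h => hne (h ▸ rfl),
    fun r h1 h2 => by
      rcases himm (hU.fromSpec r) ((fromSpec_specializes_iff hU q r).2 h1.le)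
        ((fromSpec_specializes_iff hU r p).2 h2.le) with h | h
      · exact h1.ne (hinj h).symm
      · exact h2.ne (hinj h)⟩
  have := coheight_of_covBy k hcov
  rw [deg_eq_coheight f hU, deg_eq_coheight f hU] at this
  exact_mod_cast this

/-- `deg x + dim O_{X,x}` is the largest `deg` of a generalization of `x`. -/
theorem exists_deg_add_stalk (x : X) : ∃ b : ℕ, ringKrullDim (X.presheaf.stalk x) = b ∧
    (∃ η, η ⤳ x ∧ deg f η = deg f x + b) ∧ ∀ η, η ⤳ x → deg f η ≤ deg f x + b := by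
  obtain ⟨U, hU, hx, -⟩ := exists_isAffineOpen_mem_and_subset (x := x) (U := ⊤) trivial
  obtain ⟨p, rfl⟩ := exists_fromSpec_eq hU hx
  obtain ⟨_, hft⟩ := exists_algebra f hU
  have : IsNoetherianRing Γ(X, U) := Algebra.FiniteType.isNoetherianRing k _
  have hfin : height p ≠ ⊤ := by
    rw [← PrimeSpectrum.height_eq_orderHeight]
    exact Ideal.height_ne_top_of_isPrime
  obtain ⟨b, hb⟩ := ENat.ne_top_iff_exists.1 hfin
  have hle : ∀ η, η ⤳ hU.fromSpec p → deg f η ≤ deg f (hU.fromSpec p) + b := by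
    intro η hη
    obtain ⟨q, rfl⟩ := exists_fromSpec_eq hU (hη.mem_open U.2 hx)
    have := height_add_coheight_mono k ((fromSpec_specializes_iff hU q p).1 hη)
    rw [deg_eq_coheight f hU, deg_eq_coheight f hU, ← hb, add_comm ((b : ℕ∞))] at this
    exact_mod_cast le_trans le_add_self this
  refine ⟨b, ?_, ?_, hle⟩
  · rw [ringKrullDim_stalk_fromSpec hU, ← hb]; rfl
  obtain ⟨l, hl, hlen⟩ := exists_series_of_height_eq_coe p hb.symm
  obtain ⟨m, hm, hmlen⟩ := exists_series_of_coheight_eq_coe p (deg_eq_coheight f hU p)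
  have h0 : l.head ≤ p := hl ▸ LTSeries.head_le_last l
  refine ⟨hU.fromSpec l.head, (fromSpec_specializes_iff hU _ p).2 h0, le_antisymm
    (hle _ ((fromSpec_specializes_iff hU _ p).2 h0)) ?_⟩
  have h1 := length_le_coheight (p := l.smash m (hl.trans hm.symm)) (x := l.head)
    (le_of_eq (RelSeries.head_smash _).symm)
  rw [deg_eq_coheight f hU, RelSeries.smash_length, hlen, hmlen] at h1
  rw [add_comm]
  exact_mod_cast h1

/-- A neighbourhood on which every `deg` is bounded by that of a generalization of `x`. -/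
theorem exists_nhd (x : X) : ∃ U : X.Opens, x ∈ U ∧
    ∀ z ∈ U, ∃ η, η ⤳ x ∧ deg f z ≤ deg f η := by
  obtain ⟨U, hU, hx, -⟩ := exists_isAffineOpen_mem_and_subset (x := x) (U := ⊤) trivial
  obtain ⟨p, rfl⟩ := exists_fromSpec_eq hU hx
  obtain ⟨_, hft⟩ := exists_algebra f hU
  have : IsNoetherianRing Γ(X, U) := Algebra.FiniteType.isNoetherianRing k _
  have hS : {q : Ideal Γ(X, U) | q ∈ minimalPrimes Γ(X, U) ∧ ¬ q ≤ p.asIdeal}.Finite :=
    (minimalPrimes.finite_of_isNoetherianRing _).subset fun q hq => hq.1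
  have hC : IsClosed (⋃ q ∈ {q : Ideal Γ(X, U) | q ∈ minimalPrimes Γ(X, U) ∧ ¬ q ≤ p.asIdeal},
      PrimeSpectrum.zeroLocus (q : Set Γ(X, U))) :=
    hS.isClosed_biUnion fun q _ => PrimeSpectrum.isClosed_zeroLocus _
  refine ⟨⟨hU.fromSpec '' _, hU.fromSpec.isOpenEmbedding.isOpenMap _ hC.isOpen_compl⟩,
    ⟨p, ?_, rfl⟩, ?_⟩
  · intro hmem
    obtain ⟨q, hq, hqp⟩ := Set.mem_iUnion₂.1 hmem
    exact hq.2 hqp
  · rintro _ ⟨(r : PrimeSpectrum Γ(X, U)), hr, rfl⟩
    obtain ⟨q, hq, hqr⟩ := Ideal.exists_minimalPrimes_le (bot_le : (⊥ : Ideal Γ(X, U)) ≤ r.asIdeal)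
    have hqp : q ≤ p.asIdeal := by_contra fun h => hr (Set.mem_iUnion₂.2 ⟨q, ⟨hq, h⟩, hqr⟩)
    exact ⟨hU.fromSpec (⟨q, hq.1.1⟩ : PrimeSpectrum Γ(X, U)),
      (fromSpec_specializes_iff hU _ _).2 hqp,
      deg_le_of_specializes f ((fromSpec_specializes_iff hU _ _).2 hqr)⟩

end Groth.Agent.VarDim
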