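import Groth.Agent.VarDim.Scheme
import Mathlib.AlgebraicGeometry.Restrict
import Mathlib.AlgebraicGeometry.FunctionField
import Mathlib.AlgebraicGeometry.Morphisms.OpenImmersion

/-!
# Topological dimension of closed and open subsets in terms of `deg`
-/

namespace Groth.Agent.VarDim

open AlgebraicGeometry CategoryTheory Order TopologicalSpace

universe u

section Sober

variable (X : Type*) [TopologicalSpace X] [QuasiSober X] [T0Space X]

theorem topologicalKrullDim_eq_iSup_height :
    topologicalKrullDim X = ⨆ x : X, ((@height X (specializationPreorder X) x : ℕ∞) : WithBot ℕ∞) := by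
  letI := specializationOrder X
  exact (Order.krullDim_eq_of_orderIso (irreducibleSetEquivPoints (α := X))).trans
    (Order.krullDim_eq_iSup_height (α := X))

variable {X}

theorem topologicalKrullDim_isClosed {Z : Set X} (hZ : IsClosed Z) :
    topologicalKrullDim Z = ⨆ z : Z, ((@height X (specializationPreorder X) z : ℕ∞) : WithBot ℕ∞) := by
  have : QuasiSober Z := hZ.isClosedEmbedding_subtypeVal.quasiSober
  rw [topologicalKrullDim_eq_iSup_height Z]
  refine iSup_congr fun z => congrArg _ ?_
  letI := specializationPreorder X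
  letI := specializationPreorder Z
  refine height_eq_of_strictMono (Subtype.val : Z → X) ?_ ?_ z
  · intro a b hab
    obtain ⟨h1, h2⟩ := lt_iff_le_not_ge.1 hab
    exact lt_iff_le_not_ge.2 ⟨(subtype_specializes_iff _ _).1 (h1 : b ⤳ a),
      fun h => h2 ((subtype_specializes_iff _ _).2 (h : (a : X) ⤳ b))⟩
  · intro a b hb
    obtain ⟨h1, h2⟩ := lt_iff_le_not_ge.1 hb
    have hbZ : b ∈ Z := (h1 : (a : X) ⤳ b).mem_closed hZ a.2
    exact ⟨⟨b, hbZ⟩, lt_iff_le_not_ge.2 ⟨(subtype_specializes_iff _ _).2 (h1 : (a : X) ⤳ b),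
      fun h => h2 ((subtype_specializes_iff _ _).1 (h : (⟨b, hbZ⟩ : Z) ⤳ a))⟩, rfl⟩

end Sober

variable {k : Type u} [Field k] {X : Scheme.{u}} (f : X ⟶ Spec (CommRingCat.of k))
  [LocallyOfFiniteType f]

theorem deg_le_of_specializes {x y : X} (h : x ⤳ y) : deg f y ≤ deg f x :=
  by
  by_cases h' : y ⤳ x
  · rw [(h.antisymm h').eq]
  · exact le_of_lt (deg_strictMono f (lt_iff_le_not_ge.2 ⟨h, h'⟩))

theorem topologicalKrullDim_eq_iSup_deg :
    topologicalKrullDim X = ⨆ x : X, ((deg f x : ℕ∞) : WithBot ℕ∞) := by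
  rw [topologicalKrullDim_eq_iSup_height]
  exact iSup_congr fun x => congrArg _ (height_eq_deg f x)

theorem topologicalKrullDim_set_eq_iSup_deg {Z : Set X} (hZ : IsClosed Z) :
    topologicalKrullDim Z = ⨆ z : Z, ((deg f z : ℕ∞) : WithBot ℕ∞) := by
  rw [topologicalKrullDim_isClosed hZ]
  exact iSup_congr fun z => congrArg _ (height_eq_deg f z.1)

theorem topologicalKrullDim_closure_singleton (x : X) :
    topologicalKrullDim (closure ({x} : Set X)) = ((deg f x : ℕ∞) : WithBot ℕ∞) := by
  rw [topologicalKrullDim_set_eq_iSup_deg f isClosed_closure]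
  refine le_antisymm (iSup_le fun z => ?_) (le_iSup_of_le ⟨x, subset_closure rfl⟩ le_rfl)
  exact_mod_cast deg_le_of_specializes f (specializes_iff_mem_closure.2 z.2)

theorem topologicalKrullDim_eq_deg_genericPoint [IrreducibleSpace X] :
    topologicalKrullDim X = ((deg f (genericPoint X) : ℕ∞) : WithBot ℕ∞) := by
  rw [topologicalKrullDim_eq_iSup_deg f]
  refine le_antisymm (iSup_le fun z => ?_) (le_iSup_of_le (genericPoint X) le_rfl)
  exact_mod_cast deg_le_of_specializes f (genericPoint_specializes z)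

theorem topologicalKrullDim_opens_eq_iSup_deg (U : X.Opens) :
    topologicalKrullDim (U : Set X) = ⨆ z : U, ((deg f z.1 : ℕ∞) : WithBot ℕ∞) := by
  show topologicalKrullDim U.toScheme = _
  rw [topologicalKrullDim_eq_iSup_deg (U.ι ≫ f)]
  exact iSup_congr fun (z : U.toScheme) => by rw [deg_comp f U.ι z]; rfl

/-- The dimension of the stalk plus the dimension of the closure, for an affine neighbourhood. -/
theorem ringKrullDim_stalk_fromSpec {U : X.Opens} (hU : IsAffineOpen U) (p : PrimeSpectrum Γ(X, U)) :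
    ringKrullDim (X.presheaf.stalk (hU.fromSpec p)) = (Order.height p : WithBot ℕ∞) := by
  have hx : hU.fromSpec p ∈ U := by
    have : hU.fromSpec p ∈ Set.range hU.fromSpec := ⟨p, rfl⟩
    rwa [hU.range_fromSpec] at this
  letI : Algebra Γ(X, U) (X.presheaf.stalk (hU.fromSpec p)) :=
    TopCat.Presheaf.algebra_section_stalk X.presheaf (U := U) ⟨hU.fromSpec p, hx⟩
  have := hU.isLocalization_stalk' p hx
  rw [← PrimeSpectrum.height_eq_orderHeight]
  exact @IsLocalization.AtPrime.ringKrullDim_eq_height Γ(X, U) _ p.asIdeal _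
    (X.presheaf.stalk (hU.fromSpec p)) _ _ this

end Groth.Agent.VarDim
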