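import Groth.Agent.VarDim.Catenary
import Mathlib.RingTheory.Flat.Basic
import Mathlib.RingTheory.TensorProduct.Pi
import Mathlib.RingTheory.TensorProduct.MvPolynomial
import Mathlib.RingTheory.TensorProduct.Finite
import Mathlib.RingTheory.FiniteStability
import Mathlib.LinearAlgebra.LinearIndependent.Lemmas
import Mathlib.RingTheory.IntegralClosure.IsIntegralClosure.Basic

/-!
# Tensor products of domains over a field, and intersections in affine space
-/

namespace Groth.Agent.VarDim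

open Order TensorProduct

universe u v

theorem exists_injective_pi {R M : Type*} [CommRing R] [IsDomain R] [AddCommGroup M] [Module R M]
    [Module.Finite R M] (hM : ∀ c : R, c ≠ 0 → Function.Injective fun x : M => c • x) :
    ∃ (n : ℕ) (φ : M →ₗ[R] Fin n → R), Function.Injective φ := by
  classical
  obtain ⟨n, v, hv⟩ := Module.Finite.exists_fin (R := R) (M := M)
  obtain ⟨s, hs, hmax⟩ := exists_maximal_linearIndepOn R v
  have : ∀ i, ∃ a : R, a ≠ 0 ∧ a • v i ∈ Submodule.span R (v '' s) := fun i => by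
    by_cases hi : i ∈ s
    · exact ⟨1, one_ne_zero, by rw [one_smul]; exact Submodule.subset_span ⟨i, hi, rfl⟩⟩
    · exact hmax i hi
  choose a ha hav using this
  let c := ∏ i, a i
  have hc : c ≠ 0 := Finset.prod_ne_zero_iff.2 fun i _ => ha i
  have hmem : ∀ x : M, c • x ∈ Submodule.span R (v '' s) := fun x => by
    have hx : x ∈ Submodule.span R (Set.range v) := hv ▸ Submodule.mem_top
    induction hx using Submodule.span_induction with
    | mem y hy =>
      obtain ⟨i, rfl⟩ := hy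
      obtain ⟨d, hd⟩ : a i ∣ c := Finset.dvd_prod_of_mem a (Finset.mem_univ i)
      rw [hd, mul_comm, mul_smul]
      exact Submodule.smul_mem _ _ (hav i)
    | zero => rw [smul_zero]; exact zero_mem _
    | add y z _ _ hy hz => rw [smul_add]; exact add_mem hy hz
    | smul r y _ hy => rw [smul_comm]; exact Submodule.smul_mem _ _ hy
  have hli : LinearIndependent R fun i : s => v i := hs
  let b := Module.Basis.span hli
  have hrange : Submodule.span R (Set.range fun i : s => v i) = Submodule.span R (v '' s) := by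
    rw [Set.image_eq_range]
  let e : Submodule.span R (v '' s) ≃ₗ[R] (Fin (Fintype.card s) → R) :=
    (LinearEquiv.ofEq _ _ hrange.symm).trans ((b.reindex (Fintype.equivFin s)).equivFun)
  refine ⟨_, e.toLinearMap ∘ₗ (LinearMap.codRestrict _ (LinearMap.lsmul R M c) hmem),
    e.injective.comp fun x y h => hM c hc (congrArg Subtype.val h)⟩

variable (k : Type u) [Field k]

/-- Every minimal prime of the tensor product of two domains has the sum of their dimensions. -/
theorem coheight_minimalPrime_tensor (AP AQ : Type u) [CommRing AP] [IsDomain AP] [Algebra k AP]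
    [Algebra.FiniteType k AP] [CommRing AQ] [IsDomain AQ] [Algebra k AQ] [Algebra.FiniteType k AQ]
    {r s : ℕ} (hr : ringKrullDim AP = r) (hs : ringKrullDim AQ = s)
    (q : PrimeSpectrum (AP ⊗[k] AQ)) (hq : q.asIdeal ∈ minimalPrimes (AP ⊗[k] AQ)) :
    coheight q = (r + s : ℕ) := by
  classical
  obtain ⟨s', g, hinj, hfin⟩ := exists_finite_inj_algHom_of_fg k AQ
  let T := MvPolynomial (Fin s') k
  letI : Algebra T AQ := g.toRingHom.toAlgebra
  have : IsScalarTower k T AQ := IsScalarTower.of_algebraMap_eq fun x => (g.commutes x).symm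
  have hTfin : Module.Finite T AQ := hfin
  have : FaithfulSMul T AQ := (faithfulSMul_iff_algebraMap_injective _ _).2 hinj
  have hTint : Algebra.IsIntegral T AQ := Algebra.IsIntegral.of_finite T AQ
  obtain rfl : s' = s := by
    rw [ringKrullDim_eq_of_isIntegral (R := T) (S := AQ), MvPolynomial.ringKrullDim_of_isNoetherianRing,
      ringKrullDim_eq_zero_of_field, zero_add, Nat.card_fin] at hs
    exact_mod_cast hs
  obtain ⟨N, φ, hφ⟩ := exists_injective_pi (R := T) (M := AQ) fun c hc x y h => by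
    simp only [Algebra.smul_def] at h
    exact mul_left_cancel₀ (fun h0 => hc (hinj (h0.trans (map_zero g).symm))) h
  let D := AP ⊗[k] T
  let eD : D ≃ₐ[AP] MvPolynomial (Fin s') AP := MvPolynomial.algebraTensorAlgEquiv k AP
  have : IsDomain D := eD.toRingEquiv.toMulEquiv.isDomain
  have hdimD : ringKrullDim D = ((r + s' : ℕ) : WithBot ℕ∞) := by
    have : IsNoetherianRing AP := Algebra.FiniteType.isNoetherianRing k _
    rw [ringKrullDim_eq_of_ringEquiv eD.toRingEquiv, MvPolynomial.ringKrullDim_of_isNoetherianRing, hr,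
      Nat.card_fin, Nat.cast_add]
  let gB : D →ₐ[k] AP ⊗[k] AQ := Algebra.TensorProduct.map (AlgHom.id k AP) g
  let Φ : AP ⊗[k] AQ →ₗ[k] Fin N → D :=
    (TensorProduct.piRight k k AP (fun _ : Fin N => T)).toLinearMap ∘ₗ
      LinearMap.lTensor AP (φ.restrictScalars k)
  have hΦ : Function.Injective Φ :=
    (TensorProduct.piRight k k AP (fun _ : Fin N => T)).injective.comp
      (Module.Flat.lTensor_preserves_injective_linearMap _ hφ)
  have hmul : ∀ (d : D) (b : AP ⊗[k] AQ) (i : Fin N), Φ (gB d * b) i = d * Φ b i := by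
    intro d b i
    induction d using TensorProduct.induction_on with
    | zero => simp
    | add d₁ d₂ h₁ h₂ => rw [map_add, add_mul, map_add, Pi.add_apply, h₁, h₂, add_mul]
    | tmul a t =>
      induction b using TensorProduct.induction_on with
      | zero => simp
      | add b₁ b₂ h₁ h₂ => rw [mul_add, map_add, Pi.add_apply, h₁, h₂, map_add, Pi.add_apply, mul_add]
      | tmul a' x =>
        have e1 : gB (a ⊗ₜ[k] t) = a ⊗ₜ[k] g t := Algebra.TensorProduct.map_tmul _ _ _ _
        have e2 : ∀ (c : AP) (y : AQ), Φ (c ⊗ₜ[k] y) i = c ⊗ₜ[k] φ y i := fun c y => by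
          simp [Φ]
        rw [e1, Algebra.TensorProduct.tmul_mul_tmul, e2, e2, show g t * x = t • x from rfl, map_smul,
          Pi.smul_apply, smul_eq_mul]
        exact (Algebra.TensorProduct.tmul_mul_tmul a a' t (φ x i)).symm
  letI : Algebra D (AP ⊗[k] AQ) := gB.toRingHom.toAlgebra
  have hint : Algebra.IsIntegral D (AP ⊗[k] AQ) := ⟨fun b => by
    induction b using TensorProduct.induction_on with
    | zero => exact isIntegral_zero
    | add b₁ b₂ h₁ h₂ => exact h₁.add h₂
    | tmul a x =>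
      rw [show a ⊗ₜ[k] x = (a ⊗ₜ[k] (1 : AQ)) * ((1 : AP) ⊗ₜ[k] x) by
        rw [Algebra.TensorProduct.tmul_mul_tmul, mul_one, one_mul]]
      refine IsIntegral.mul ?_ ?_
      · have h1 : IsIntegral D (algebraMap D (AP ⊗[k] AQ) (a ⊗ₜ[k] (1 : T))) := isIntegral_algebraMap
        rwa [show algebraMap D (AP ⊗[k] AQ) (a ⊗ₜ[k] (1 : T)) = a ⊗ₜ[k] (1 : AQ) from by
          show gB (a ⊗ₜ[k] (1 : T)) = _
          rw [show gB (a ⊗ₜ[k] (1 : T)) = a ⊗ₜ[k] g 1 from Algebra.TensorProduct.map_tmul _ _ _ _,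
            map_one]] at h1
      · obtain ⟨p, hp, hpx⟩ := Algebra.IsIntegral.isIntegral (R := T) x
        refine ⟨p.map (Algebra.TensorProduct.includeRight (R := k) (A := AP) (B := T)).toRingHom,
          hp.map _, ?_⟩
        rw [Polynomial.eval₂_map]
        have : (algebraMap D (AP ⊗[k] AQ)).comp
            (Algebra.TensorProduct.includeRight (R := k) (A := AP) (B := T)).toRingHom =
            (Algebra.TensorProduct.includeRight (R := k) (A := AP) (B := AQ)).toRingHom.comp
              (algebraMap T AQ) := by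
          refine RingHom.ext fun t => ?_
          show gB ((1 : AP) ⊗ₜ[k] t) = (1 : AP) ⊗ₜ[k] g t
          rw [Algebra.TensorProduct.map_tmul, AlgHom.id_apply]
        rw [this]
        exact (Polynomial.hom_eval₂ _ _ _ _).symm.trans (by rw [hpx, map_zero])⟩
  have hbot : q.asIdeal.comap (algebraMap D (AP ⊗[k] AQ)) = ⊥ := by
    rw [eq_bot_iff]
    intro d hd
    by_contra hd0
    refine notMem_nonZeroDivisors_of_mem_mem_minimalPrimes (Ideal.mem_comap.1 hd) hq ?_
    refine mem_nonZeroDivisors_iff_right.2 fun b hb => hΦ ?_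
    rw [map_zero]
    funext i
    have h := hmul d b i
    rw [mul_comm, show b * gB d = 0 from hb, map_zero, Pi.zero_apply] at h
    exact (mul_eq_zero.1 h.symm).resolve_left hd0
  have : FaithfulSMul D ((AP ⊗[k] AQ) ⧸ q.asIdeal) := by
    refine (faithfulSMul_iff_algebraMap_injective D _).2 ((injective_iff_map_eq_zero _).2 ?_)
    intro d hd
    rw [IsScalarTower.algebraMap_apply D (AP ⊗[k] AQ), Ideal.Quotient.algebraMap_eq,
      Ideal.Quotient.eq_zero_iff_mem, ← Ideal.mem_comap, hbot] at hd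
    exact hd
  have hI : Algebra.IsIntegral D ((AP ⊗[k] AQ) ⧸ q.asIdeal) :=
    ⟨fun y => by
      obtain ⟨y, rfl⟩ := Ideal.Quotient.mk_surjective y
      obtain ⟨p, hp, hpy⟩ := hint.isIntegral y
      refine ⟨p, hp, ?_⟩
      show Polynomial.eval₂ ((Ideal.Quotient.mk q.asIdeal).comp (algebraMap D (AP ⊗[k] AQ)))
        (Ideal.Quotient.mk q.asIdeal y) p = 0
      rw [← Polynomial.hom_eval₂, hpy, map_zero]⟩
  refine WithBot.coe_inj.1 ((coheight_eq_ringKrullDim_quotient q).trans ?_)
  rw [ringKrullDim_eq_of_isIntegral (R := D) (S := (AP ⊗[k] AQ) ⧸ q.asIdeal), hdimD]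
  rfl

/-- Intersection in affine space, for abstract quotients. -/
theorem affine_intersection_aux {σ : Type v} [Fintype σ] (P Q : PrimeSpectrum (MvPolynomial σ k))
    (R : PrimeSpectrum (MvPolynomial σ k)) (hR : R.asIdeal ∈ (P.asIdeal ⊔ Q.asIdeal).minimalPrimes)
    (AP AQ : Type u) [CommRing AP] [IsDomain AP] [Algebra k AP] [Algebra.FiniteType k AP]
    [CommRing AQ] [IsDomain AQ] [Algebra k AQ] [Algebra.FiniteType k AQ]
    (pP : MvPolynomial σ k →ₐ[k] AP) (pQ : MvPolynomial σ k →ₐ[k] AQ)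
    (hpP : Function.Surjective pP) (hpQ : Function.Surjective pQ)
    (hkP : ∀ a, pP a = 0 ↔ a ∈ P.asIdeal) (hkQ : ∀ a, pQ a = 0 ↔ a ∈ Q.asIdeal)
    {r s : ℕ} (hr : ringKrullDim AP = r) (hs : ringKrullDim AQ = s) :
    ((r + s : ℕ) : ℕ∞) ≤ coheight R + Fintype.card σ := by
  classical
  let A := MvPolynomial σ k
  let C := A ⧸ (P.asIdeal ⊔ Q.asIdeal)
  have hkP' : RingHom.ker pP.toRingHom = P.asIdeal := Ideal.ext hkP
  have hkQ' : RingHom.ker pQ.toRingHom = Q.asIdeal := Ideal.ext hkQ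
  let π₁ : AP →ₐ[k] C := AlgHom.liftOfSurjective pP hpP (Ideal.Quotient.mkₐ k _) (fun a ha =>
    Ideal.Quotient.eq_zero_iff_mem.2 (Ideal.mem_sup_left ((hkP a).1 ha)))
  let π₂ : AQ →ₐ[k] C := AlgHom.liftOfSurjective pQ hpQ (Ideal.Quotient.mkₐ k _) (fun a ha =>
    Ideal.Quotient.eq_zero_iff_mem.2 (Ideal.mem_sup_right ((hkQ a).1 ha)))
  have hπ₁' : ∀ a, π₁ (pP a) = Ideal.Quotient.mk _ a := fun a => AlgHom.liftOfSurjective_apply ..
  have hπ₂' : ∀ a, π₂ (pQ a) = Ideal.Quotient.mk _ a := fun a => AlgHom.liftOfSurjective_apply ..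
  let π : (AP ⊗[k] AQ) →ₐ[k] C := Algebra.TensorProduct.productMap π₁ π₂
  let G : Finset (AP ⊗[k] AQ) := Finset.univ.image fun i : σ =>
    (pP (MvPolynomial.X i)) ⊗ₜ[k] (1 : AQ) -
      (1 : AP) ⊗ₜ[k] (pQ (MvPolynomial.X i))
  let J : Ideal (AP ⊗[k] AQ) := Ideal.span (G : Set (AP ⊗[k] AQ))
  let i₁ : A →ₐ[k] (AP ⊗[k] AQ) ⧸ J := (Ideal.Quotient.mkₐ k J).comp
    ((Algebra.TensorProduct.includeLeft : _ →ₐ[k] (AP ⊗[k] AQ)).comp (pP))
  let i₂ : A →ₐ[k] (AP ⊗[k] AQ) ⧸ J := (Ideal.Quotient.mkₐ k J).comp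
    ((Algebra.TensorProduct.includeRight : _ →ₐ[k] (AP ⊗[k] AQ)).comp (pQ))
  have hi : i₁ = i₂ := MvPolynomial.algHom_ext fun i => Ideal.Quotient.eq.2
    (Ideal.subset_span (Finset.mem_image.2 ⟨i, Finset.mem_univ i, rfl⟩))
  have hπ : ∀ a, π (pP a ⊗ₜ[k] (1 : AQ)) = Ideal.Quotient.mk _ a := by
    intro a
    rw [Algebra.TensorProduct.productMap_apply_tmul, map_one, mul_one, hπ₁']
  have hπ₂ : ∀ a, π ((1 : AP) ⊗ₜ[k] pQ a) = Ideal.Quotient.mk _ a := by
    intro a
    rw [Algebra.TensorProduct.productMap_apply_tmul, map_one, one_mul, hπ₂']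
  have hi₁ : ∀ b : (AP ⊗[k] AQ), ∃ c : A, Ideal.Quotient.mk J b = i₁ c := by
    intro b
    induction b using TensorProduct.induction_on with
    | zero => exact ⟨0, by rw [map_zero, map_zero]⟩
    | add b₁ b₂ h₁ h₂ =>
      obtain ⟨c₁, h₁⟩ := h₁
      obtain ⟨c₂, h₂⟩ := h₂
      exact ⟨c₁ + c₂, by rw [map_add, map_add, h₁, h₂]⟩
    | tmul a x =>
      obtain ⟨a, rfl⟩ := hpP a
      obtain ⟨x, rfl⟩ := hpQ x
      refine ⟨a * x, ?_⟩
      have h2 : i₁ x = i₂ x := by rw [hi]
      rw [map_mul, h2]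
      show _ = Ideal.Quotient.mk J _ * Ideal.Quotient.mk J _
      rw [← map_mul]
      exact congrArg _ (by simp)
  have hJπ : ∀ b ∈ J, π b = 0 := by
    intro b hb
    refine Submodule.span_induction ?_ (map_zero π) (fun x y _ _ hx hy => by rw [map_add, hx, hy, add_zero])
      (fun c x _ hx => by rw [smul_eq_mul, map_mul, hx, mul_zero]) hb
    intro x hx
    obtain ⟨i, -, rfl⟩ := Finset.mem_image.1 hx
    rw [map_sub, hπ, hπ₂, sub_self]
  let f : (AP ⊗[k] AQ) →+* A ⧸ R.asIdeal := (Ideal.Quotient.factor hR.1.2).comp π.toRingHom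
  have hf : Function.Surjective f := fun y => by
    obtain ⟨y, rfl⟩ := Ideal.Quotient.mk_surjective y
    refine ⟨pP y ⊗ₜ[k] (1 : AQ), ?_⟩
    simp only [f, RingHom.comp_apply, AlgHom.toRingHom_eq_coe, RingHom.coe_coe]
    rw [hπ]
    rfl
  let R' : PrimeSpectrum (AP ⊗[k] AQ) := ⟨RingHom.ker f, RingHom.ker_isPrime f⟩
  have hco : coheight R' = coheight R := by
    refine WithBot.coe_inj.1 ?_
    rw [coheight_eq_ringKrullDim_quotient, coheight_eq_ringKrullDim_quotient]
    exact ringKrullDim_eq_of_ringEquiv (RingHom.quotientKerEquivOfSurjective hf)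
  have hmem : ∀ (b : (AP ⊗[k] AQ)) (c : A), Ideal.Quotient.mk J b = i₁ c →
      f b = Ideal.Quotient.mk R.asIdeal c := by
    intro b c hbc
    have h0 := hJπ _ (Ideal.Quotient.eq.1 (show Ideal.Quotient.mk J b =
      Ideal.Quotient.mk J (pP c ⊗ₜ[k] (1 : AQ)) from hbc))
    rw [map_sub, hπ, sub_eq_zero] at h0
    show Ideal.Quotient.factor hR.1.2 (π b) = _
    rw [h0]
    rfl
  have hmin : R'.asIdeal ∈ J.minimalPrimes := by
    refine ⟨⟨R'.2, fun b hb => ?_⟩, fun S hS hSR => ?_⟩
    · show f b = 0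
      rw [show f b = Ideal.Quotient.factor hR.1.2 (π b) from rfl, hJπ b hb, map_zero]
    have hS' := hS.1
    let ι : A →+* (AP ⊗[k] AQ) := ((Algebra.TensorProduct.includeLeft : _ →ₐ[k] (AP ⊗[k] AQ)).comp
      (pP)).toRingHom
    have hι : ∀ a, ι a = pP a ⊗ₜ[k] (1 : AQ) := fun a => rfl
    have hle : P.asIdeal ⊔ Q.asIdeal ≤ S.comap ι := by
      refine sup_le (fun a ha => ?_) (fun a ha => ?_)
      · rw [Ideal.mem_comap, hι, (hkP a).2 ha, TensorProduct.zero_tmul]
        exact S.zero_mem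
      · refine hS.2 (Ideal.Quotient.eq_zero_iff_mem.1 ?_)
        show i₁ a = 0
        rw [hi]
        show Ideal.Quotient.mk J ((1 : AP) ⊗ₜ[k] pQ a) = 0
        rw [(hkQ a).2 ha, TensorProduct.tmul_zero, map_zero]
    have hcR : S.comap ι ≤ R.asIdeal := fun a ha => by
      have h := hmem (ι a) a rfl
      rw [show f (ι a) = 0 from hSR ha] at h
      exact Ideal.Quotient.eq_zero_iff_mem.1 h.symm
    intro b hb
    obtain ⟨c, hc⟩ := hi₁ b
    have h := hmem b c hc
    rw [show f b = 0 from hb] at h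
    have hcS : ι c ∈ S := hR.2 ⟨hS'.comap ι, hle⟩ hcR (Ideal.Quotient.eq_zero_iff_mem.1 h.symm)
    have := S.add_mem (hS.2 (Ideal.Quotient.eq.1 (show Ideal.Quotient.mk J b =
      Ideal.Quotient.mk J (ι c) from hc))) hcS
    rwa [sub_add_cancel] at this
  have hft : Algebra.FiniteType k (AP ⊗[k] AQ) :=
    Algebra.FiniteType.trans (S := AP) inferInstance inferInstance
  have hnoeth : IsNoetherianRing (AP ⊗[k] AQ) := Algebra.FiniteType.isNoetherianRing k _
  have := R'.2
  have hht : height R' ≤ Fintype.card σ := by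
    rw [← PrimeSpectrum.height_eq_orderHeight]
    refine (Ideal.height_le_card_of_mem_minimalPrimes_span_finset hmin).trans ?_
    exact_mod_cast Finset.card_image_le.trans (le_of_eq Finset.card_univ)
  obtain ⟨q, hq, hqR⟩ := Ideal.exists_minimalPrimes_le (bot_le : (⊥ : Ideal (AP ⊗[k] AQ)) ≤ R'.asIdeal)
  have hmono := height_add_coheight_mono k (q := (⟨q, hq.1.1⟩ : PrimeSpectrum (AP ⊗[k] AQ))) (p := R') hqR
  rw [coheight_minimalPrime_tensor k AP AQ hr hs ⟨q, hq.1.1⟩ hq, hco] at hmono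
  rw [add_comm (coheight R)]
  exact (le_trans (le_add_self.trans hmono)
    (add_le_add_left hht _))

/-- **Intersection in affine space**: `dim R ≥ dim P + dim Q - n` for a prime `R` minimal over `P + Q`. -/
theorem affine_intersection {σ : Type u} [Fintype σ] (P Q : PrimeSpectrum (MvPolynomial σ k))
    (R : PrimeSpectrum (MvPolynomial σ k)) (hR : R.asIdeal ∈ (P.asIdeal ⊔ Q.asIdeal).minimalPrimes) :
    coheight P + coheight Q ≤ coheight R + Fintype.card σ := by
  obtain ⟨r, hr, -⟩ := exists_dim_eq_trdeg k (MvPolynomial σ k ⧸ P.asIdeal)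
  obtain ⟨s, hs, -⟩ := exists_dim_eq_trdeg k (MvPolynomial σ k ⧸ Q.asIdeal)
  have hP : coheight P = r := WithBot.coe_inj.1 ((coheight_eq_ringKrullDim_quotient P).trans hr)
  have hQ : coheight Q = s := WithBot.coe_inj.1 ((coheight_eq_ringKrullDim_quotient Q).trans hs)
  rw [hP, hQ, ← Nat.cast_add]
  exact affine_intersection_aux k P Q R hR _ _ (Ideal.Quotient.mkₐ k P.asIdeal)
    (Ideal.Quotient.mkₐ k Q.asIdeal) Ideal.Quotient.mk_surjective Ideal.Quotient.mk_surjective
    (fun _ => Ideal.Quotient.eq_zero_iff_mem) (fun _ => Ideal.Quotient.eq_zero_iff_mem) hr hs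

/-- **Intersection in affine space** (variables indexed by a small type): `dim R ≥ dim P + dim Q - n` for a prime `R` minimal over `P + Q`. -/
theorem affine_intersection₀ {σ : Type} [Fintype σ] (P Q : PrimeSpectrum (MvPolynomial σ k))
    (R : PrimeSpectrum (MvPolynomial σ k)) (hR : R.asIdeal ∈ (P.asIdeal ⊔ Q.asIdeal).minimalPrimes) :
    coheight P + coheight Q ≤ coheight R + Fintype.card σ := by
  obtain ⟨r, hr, -⟩ := exists_dim_eq_trdeg k (MvPolynomial σ k ⧸ P.asIdeal)
  obtain ⟨s, hs, -⟩ := exists_dim_eq_trdeg k (MvPolynomial σ k ⧸ Q.asIdeal)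
  have hP : coheight P = r := WithBot.coe_inj.1 ((coheight_eq_ringKrullDim_quotient P).trans hr)
  have hQ : coheight Q = s := WithBot.coe_inj.1 ((coheight_eq_ringKrullDim_quotient Q).trans hs)
  rw [hP, hQ, ← Nat.cast_add]
  exact affine_intersection_aux k P Q R hR _ _ (Ideal.Quotient.mkₐ k P.asIdeal)
    (Ideal.Quotient.mkₐ k Q.asIdeal) Ideal.Quotient.mk_surjective Ideal.Quotient.mk_surjective
    (fun _ => Ideal.Quotient.eq_zero_iff_mem) (fun _ => Ideal.Quotient.eq_zero_iff_mem) hr hs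

end Groth.Agent.VarDim
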