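import Groth.Agent.VarDim.Top
import Groth.Agent.VarDim.Intersection
import Groth.Prelude.Def_CohB1
import Mathlib.RingTheory.GradedAlgebra.Radical
import Mathlib.RingTheory.MvPolynomial.Ideal
import Mathlib.RingTheory.UniqueFactorizationDomain.Ideal

/-!
# Dimension theory of closed subsets of projective space over a field

For a point `x` of `P^n_k` with homogeneous prime `P`, `pdim x = dim k[T]/P - 1` is the dimension
of the closure of `x`.
-/

namespace Groth.Agent.VarDim.ProjN

open Order MvPolynomial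

universe u

variable {k : Type u} [Field k] {n : ℕ}

local notation "A" => MvPolynomial (Fin (n + 1)) k
local notation "𝒜" => CohB1.polyGrading n k

/-- The vertex ideal. -/
noncomputable def vertex (k : Type u) [Field k] (n : ℕ) : Ideal (MvPolynomial (Fin (n + 1)) k) :=
  RingHom.ker (constantCoeff (σ := Fin (n + 1)) (R := k))

instance vertex_isMaximal : (vertex k n).IsMaximal :=
  RingHom.ker_isMaximal_of_surjective _ fun c => ⟨C c, constantCoeff_C _ c⟩

theorem proj_apply (i : ℕ) (a : A) :
    (DirectSum.decompose 𝒜 a i : A) = homogeneousComponent i a :=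
  MvPolynomial.decomposition.decompose'_apply a i

theorem irrelevant_eq_vertex : (HomogeneousIdeal.irrelevant 𝒜).toIdeal = vertex k n := by
  ext a
  show GradedRing.proj 𝒜 0 a = 0 ↔ constantCoeff a = 0
  rw [GradedRing.proj_apply, proj_apply, homogeneousComponent_zero, C_eq_zero]
  rfl

theorem le_vertex_of_isHomogeneous {J : Ideal A} (hJ : J.IsHomogeneous 𝒜) (hne : J ≠ ⊤) :
    J ≤ vertex k n := fun a ha => by
  by_contra h
  have h0 : constantCoeff a ≠ 0 := h
  have := hJ 0 ha
  rw [proj_apply, homogeneousComponent_zero] at this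
  exact hne (Ideal.eq_top_of_isUnit_mem _ this ((isUnit_iff_ne_zero.2 h0).map C))

theorem minimalPrimes_isHomogeneous {J P : Ideal A} (hJ : J.IsHomogeneous 𝒜)
    (hP : P ∈ J.minimalPrimes) : P.IsHomogeneous 𝒜 := by
  have hle : J ≤ (P.homogeneousCore 𝒜).toIdeal :=
    (Ideal.homogeneousCore.gc 𝒜 (⟨J, hJ⟩ : HomogeneousIdeal 𝒜) P).1 hP.1.2
  have hge : (P.homogeneousCore 𝒜).toIdeal ≤ P := Ideal.toIdeal_homogeneousCore_le _ _
  exact (Ideal.IsHomogeneous.iff_eq _ _).2
    (le_antisymm hge (hP.2 ⟨hP.1.1.homogeneousCore, hle⟩ hge))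

/-- The prime ideal of a point. -/
noncomputable def pp (x : ProjectiveSpectrum 𝒜) : PrimeSpectrum A :=
  ⟨x.asHomogeneousIdeal.toIdeal, x.isPrime⟩

theorem isHomogeneous_pp (x : ProjectiveSpectrum 𝒜) : (pp x).asIdeal.IsHomogeneous 𝒜 :=
  x.asHomogeneousIdeal.isHomogeneous

theorem pp_le_pp {x y : ProjectiveSpectrum 𝒜} : (pp x).asIdeal ≤ (pp y).asIdeal ↔ x ≤ y := Iff.rfl

theorem pp_strictMono : StrictMono (pp : ProjectiveSpectrum 𝒜 → PrimeSpectrum A) :=
  fun _ _ h => lt_iff_le_not_ge.2 ⟨h.le, fun h' => h.not_ge h'⟩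

theorem pp_injective : Function.Injective (pp : ProjectiveSpectrum 𝒜 → PrimeSpectrum A) :=
  fun x y h => le_antisymm (pp_le_pp.1 (h ▸ le_rfl)) (pp_le_pp.1 (h ▸ le_rfl))

/-- The closed point of the cone. -/
noncomputable def vertexPoint (k : Type u) [Field k] (n : ℕ) :
    PrimeSpectrum (MvPolynomial (Fin (n + 1)) k) :=
  ⟨vertex k n, vertex_isMaximal.isPrime⟩

theorem pp_lt_vertexPoint (x : ProjectiveSpectrum 𝒜) : pp x < vertexPoint k n := by
  refine lt_iff_le_not_ge.2 ⟨le_vertex_of_isHomogeneous (isHomogeneous_pp x) x.isPrime.ne_top,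
    fun h => x.not_irrelevant_le ?_⟩
  show (HomogeneousIdeal.irrelevant 𝒜).toIdeal ≤ x.asHomogeneousIdeal.toIdeal
  rw [irrelevant_eq_vertex]
  exact h

/-- A homogeneous prime other than the vertex is a point of `P^n`. -/
theorem exists_point {P : Ideal A} (hPp : P.IsPrime) (hP : P.IsHomogeneous 𝒜)
    (hne : P ≠ vertex k n) : ∃ x : ProjectiveSpectrum 𝒜, (pp x).asIdeal = P := by
  refine ⟨⟨⟨P, hP⟩, hPp, fun h => hne ?_⟩, rfl⟩
  refine le_antisymm (le_vertex_of_isHomogeneous hP hPp.ne_top) ?_
  rw [← irrelevant_eq_vertex]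
  exact h

theorem coheight_vertexPoint : coheight (vertexPoint k n) = 0 :=
  coheight_eq_zero.2 fun q hq =>
    (show (vertexPoint k n).asIdeal = q.asIdeal from
      vertex_isMaximal.eq_of_le q.2.ne_top hq).ge

/-- A minimal prime over a proper homogeneous ideal which is not the vertex is a point. -/
theorem exists_point_minimal {J P : Ideal A} (hJ : J.IsHomogeneous 𝒜) (hP : P ∈ J.minimalPrimes)
    (hne : P ≠ vertex k n) : ∃ x : ProjectiveSpectrum 𝒜, (pp x).asIdeal = P :=
  exists_point hP.1.1 (minimalPrimes_isHomogeneous hJ hP) hne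

section KrullBound

variable {B : Type u} [CommRing B] [Algebra k B] [Algebra.FiniteType k B]

include k in
/-- Cutting by `s` drops the dimension by at most `#s`. -/
theorem coheight_le_of_mem_minimalPrimes_sup {q p : PrimeSpectrum B} (s : Finset B)
    (h : p.asIdeal ∈ (q.asIdeal ⊔ Ideal.span (s : Set B)).minimalPrimes) :
    coheight q ≤ coheight p + s.card := by
  classical
  have := Algebra.FiniteType.isNoetherianRing k B
  obtain ⟨d, hd, -⟩ := exists_dim_eq_trdeg k (B ⧸ q.asIdeal)
  let π : B →+* B ⧸ q.asIdeal := Ideal.Quotient.mk _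
  have hmono : StrictMono (PrimeSpectrum.comap π) :=
    RingHom.strictMono_comap_of_surjective Ideal.Quotient.mk_surjective
  have hqp : q.asIdeal ≤ p.asIdeal := le_sup_left.trans h.1.2
  let p' : PrimeSpectrum (B ⧸ q.asIdeal) := ⟨p.asIdeal.map π,
    Ideal.map_isPrime_of_surjective Ideal.Quotient.mk_surjective (by rw [Ideal.mk_ker]; exact hqp)⟩
  have hcm : (p.asIdeal.map π).comap π = p.asIdeal := by
    rw [Ideal.comap_map_of_surjective π Ideal.Quotient.mk_surjective, sup_eq_left.2]
    rw [← RingHom.ker_eq_comap_bot, Ideal.mk_ker]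
    exact hqp
  have hp' : PrimeSpectrum.comap π p' = p := PrimeSpectrum.ext hcm
  have hmin : p'.asIdeal ∈ (Ideal.span ((s.image π : Finset _) : Set (B ⧸ q.asIdeal))).minimalPrimes := by
    refine ⟨⟨p'.2, Ideal.span_le.2 ?_⟩, fun S hS hSp => ?_⟩
    · rw [Finset.coe_image]
      rintro _ ⟨a, ha, rfl⟩
      exact Ideal.mem_map_of_mem π (h.1.2 (Ideal.mem_sup_right (Ideal.subset_span ha)))
    · have hle : q.asIdeal ⊔ Ideal.span (s : Set B) ≤ S.comap π := by
        refine sup_le (fun a ha => ?_) (Ideal.span_le.2 fun a ha => ?_)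
        · rw [Ideal.mem_comap, Ideal.Quotient.eq_zero_iff_mem.2 ha]
          exact zero_mem _
        · exact hS.2 (Ideal.subset_span (by rw [Finset.coe_image]; exact ⟨a, ha, rfl⟩))
      have := h.2 ⟨hS.1.comap π, hle⟩ ((Ideal.comap_mono hSp).trans hcm.le)
      exact Ideal.map_le_iff_le_comap.2 this
  have hht : height p' ≤ s.card := by
    have := p'.2
    rw [← PrimeSpectrum.height_eq_orderHeight]
    refine (Ideal.height_le_card_of_mem_minimalPrimes_span_finset hmin).trans ?_
    exact_mod_cast Finset.card_image_le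
  have hform := height_add_coheight_eq k d (B ⧸ q.asIdeal) hd p'
  have hq : coheight q = d := WithBot.coe_inj.1 ((coheight_eq_ringKrullDim_quotient q).trans hd)
  rw [hq, ← hform, add_comm (height p')]
  exact add_le_add (hp' ▸ coheight_le_coheight_apply_of_strictMono _ hmono p') hht

end KrullBound

theorem coheight_pp (x : ProjectiveSpectrum 𝒜) : coheight x + 1 = coheight (pp x) := by
  refine le_antisymm ?_ ?_
  · obtain ⟨M, hM⟩ := ENat.ne_top_iff_exists.1 (coheight_ne_top k (pp x))
    obtain ⟨N, hN⟩ := ENat.ne_top_iff_exists.1 (ne_top_of_le_ne_top (coheight_ne_top k (pp x))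
      (coheight_le_coheight_apply_of_strictMono _ pp_strictMono x))
    obtain ⟨l, hl, hlen⟩ := exists_series_of_coheight_eq_coe x hN.symm
    let L := (l.map pp pp_strictMono).snoc (vertexPoint k n) (pp_lt_vertexPoint _)
    have hL : L.head = pp x := (RelSeries.head_snoc (l.map pp pp_strictMono) _ (pp_lt_vertexPoint _)).trans
      (congrArg pp hl)
    have := length_le_coheight (p := L) (x := pp x) hL.symm.le
    rw [← hN]
    refine le_trans (le_of_eq ?_) this
    rw [← hlen, ← Nat.cast_succ]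
    rfl
  · suffices ∀ N : ℕ, ∀ y : ProjectiveSpectrum 𝒜, coheight (pp y) = N →
        coheight (pp y) ≤ coheight y + 1 by
      obtain ⟨N, hN⟩ := ENat.ne_top_iff_exists.1 (coheight_ne_top k (pp x))
      exact this N x hN.symm
    intro N
    induction N using Nat.strong_induction_on with
    | h N ih =>
      intro y hy
      obtain ⟨i, hi⟩ : ∃ i, X i ∉ (pp y).asIdeal := by
        by_contra h
        push Not at h
        refine y.not_irrelevant_le ?_
        show (HomogeneousIdeal.irrelevant 𝒜).toIdeal ≤ (pp y).asIdeal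
        rw [irrelevant_eq_vertex]
        have hle : Ideal.span (Set.range (X : Fin (n + 1) → A)) ≤ (pp y).asIdeal :=
          Ideal.span_le.2 (by rintro _ ⟨j, rfl⟩; exact h j)
        refine le_trans (fun a ha => ?_) hle
        rw [← Set.image_univ, mem_ideal_span_X_image]
        intro m hm
        by_contra h'
        push Not at h'
        have : m = 0 := Finsupp.ext fun j => h' j trivial
        subst this
        exact (mem_support_iff.1 hm) ha
      let J : Ideal A := (pp y).asIdeal ⊔ Ideal.span {X i}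
      have hJ : J.IsHomogeneous 𝒜 := (isHomogeneous_pp y).sup (Ideal.homogeneous_span _ _ (by
        rintro a (rfl : a = X i)
        exact ⟨1, isHomogeneous_X k i⟩))
      have hJle : J ≤ vertex k n := sup_le (pp_lt_vertexPoint y).le
        (Ideal.span_le.2 (by rintro a (rfl : a = X i); exact constantCoeff_X k i))
      obtain ⟨P, hP, -⟩ := Ideal.exists_minimalPrimes_le hJle
      have h1 : coheight (pp y) ≤ coheight (⟨P, hP.1.1⟩ : PrimeSpectrum A) + 1 :=
        le_of_le_of_eq (coheight_le_of_mem_minimalPrimes_sup (k := k) (q := pp y)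
          (p := ⟨P, hP.1.1⟩) {X i} (by simpa [J] using hP)) (by simp)
      have hlt : pp y < (⟨P, hP.1.1⟩ : PrimeSpectrum A) :=
        lt_iff_le_not_ge.2 ⟨le_sup_left.trans hP.1.2, fun h =>
          hi (h (hP.1.2 (Ideal.mem_sup_right (Ideal.subset_span rfl))))⟩
      by_cases hPv : P = vertex k n
      · subst hPv
        refine h1.trans ?_
        show coheight (vertexPoint k n) + 1 ≤ _
        rw [coheight_vertexPoint]
        exact add_le_add_left (by simp) _
      · obtain ⟨z, hz⟩ := exists_point_minimal hJ hP hPv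
        have hz' : pp z = ⟨P, hP.1.1⟩ := PrimeSpectrum.ext hz
        have hyz : y < z :=
          lt_iff_le_not_ge.2 ⟨pp_le_pp.1 (hz' ▸ hlt.le : pp y ≤ pp z),
            fun h => hlt.not_ge (hz' ▸ (pp_le_pp.2 h : pp z ≤ pp y))⟩
        obtain ⟨M, hM⟩ := ENat.ne_top_iff_exists.1 (coheight_ne_top k (pp z))
        have hlt' := coheight_add_one_le (pp_strictMono hyz)
        rw [← hM, hy] at hlt'
        have hMN : M + 1 ≤ N := by exact_mod_cast hlt'
        have h2 := ih M (by omega) z hM.symm
        rw [← hz'] at h1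
        exact h1.trans (add_le_add_left (h2.trans (coheight_add_one_le hyz)) _)

/-- Dimension of the closure of a point. -/
noncomputable def pdim (x : ProjectiveSpectrum 𝒜) : ℕ := (coheight x).toNat

theorem coheight_eq_pdim (x : ProjectiveSpectrum 𝒜) : coheight x = pdim x := by
  refine (ENat.coe_toNat fun h => coheight_ne_top k (pp x) ?_).symm
  rw [← coheight_pp, h, top_add]

theorem coheight_pp_eq (x : ProjectiveSpectrum 𝒜) : coheight (pp x) = (pdim x + 1 : ℕ) := by
  rw [← coheight_pp, coheight_eq_pdim, Nat.cast_succ]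

theorem pdim_strictAnti {x y : ProjectiveSpectrum 𝒜} (h : x < y) : pdim y < pdim x := by
  have := coheight_add_one_le h
  rw [coheight_eq_pdim, coheight_eq_pdim] at this
  exact_mod_cast this

theorem pdim_anti {x y : ProjectiveSpectrum 𝒜} (h : x ≤ y) : pdim y ≤ pdim x := by
  rcases h.eq_or_lt with rfl | h
  exacts [le_rfl, (pdim_strictAnti h).le]

theorem specializationPreorder_eq :
    specializationPreorder (ProjectiveSpectrum 𝒜) =
      (inferInstance : Preorder (ProjectiveSpectrum 𝒜)ᵒᵈ) := by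
  refine Preorder.ext fun a b => ?_
  show b ⤳ a ↔ b ≤ a
  rw [specializes_iff_mem_closure, ← ProjectiveSpectrum.le_iff_mem_closure]

theorem height_specialization (x : ProjectiveSpectrum 𝒜) :
    @height _ (specializationPreorder (ProjectiveSpectrum 𝒜)) x = pdim x := by
  rw [specializationPreorder_eq, ← coheight_eq_pdim]
  rfl

instance quasiSober : QuasiSober (ProjectiveSpectrum 𝒜) :=
  inferInstanceAs (QuasiSober ↥(AlgebraicGeometry.Proj 𝒜))

instance t0Space : T0Space (ProjectiveSpectrum 𝒜) :=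
  inferInstanceAs (T0Space ↥(AlgebraicGeometry.Proj 𝒜))

theorem topologicalKrullDim_eq {Z : Set (ProjectiveSpectrum 𝒜)} (hZ : IsClosed Z) :
    topologicalKrullDim Z = ⨆ z : Z, ((pdim z.1 : ℕ∞) : WithBot ℕ∞) := by
  rw [topologicalKrullDim_isClosed hZ]
  exact iSup_congr fun z => congrArg _ (height_specialization z.1)

theorem mem_of_le {Z : Set (ProjectiveSpectrum 𝒜)} (hZ : IsClosed Z) {x y : ProjectiveSpectrum 𝒜}
    (hx : x ∈ Z) (h : x ≤ y) : y ∈ Z :=
  hZ.closure_subset_iff.2 (Set.singleton_subset_iff.2 hx)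
    ((ProjectiveSpectrum.le_iff_mem_closure _ x y).1 h)

theorem le_topologicalKrullDim {Z : Set (ProjectiveSpectrum 𝒜)} (hZ : IsClosed Z)
    {x : ProjectiveSpectrum 𝒜} (hx : x ∈ Z) : (pdim x : WithBot ℕ∞) ≤ topologicalKrullDim Z := by
  rw [topologicalKrullDim_eq hZ]
  exact le_iSup_of_le ⟨x, hx⟩ (le_of_eq (by norm_cast))

theorem exists_pdim_eq {Z : Set (ProjectiveSpectrum 𝒜)} (hZ : IsClosed Z) {r : ℕ}
    (hr : topologicalKrullDim Z = r) : ∃ x ∈ Z, pdim x = r := by
  by_contra! h
  rw [topologicalKrullDim_eq hZ] at hr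
  have hle : ∀ z : Z, pdim z.1 ≤ r := fun z => by
    have : ((pdim z.1 : ℕ∞) : WithBot ℕ∞) ≤ (r : WithBot ℕ∞) := hr ▸ le_iSup_of_le z le_rfl
    exact_mod_cast this
  rcases Nat.eq_zero_or_pos r with rfl | hpos
  · rcases isEmpty_or_nonempty Z with he | hne
    · rw [iSup_of_empty] at hr
      simp at hr
    · obtain ⟨z⟩ := hne
      exact h z.1 z.2 (Nat.le_zero.1 (hle z))
  · have : (r : WithBot ℕ∞) ≤ ((r - 1 : ℕ) : WithBot ℕ∞) := hr ▸ iSup_le fun z => by
      have h1 := hle z
      have h2 := h z.1 z.2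
      have : pdim z.1 ≤ r - 1 := by omega
      exact WithBot.coe_le_coe.2 (Nat.cast_le.2 this)
    norm_cast at this
    omega

theorem topologicalKrullDim_closure_singleton (x : ProjectiveSpectrum 𝒜) :
    topologicalKrullDim (closure {x} : Set (ProjectiveSpectrum 𝒜)) = pdim x := by
  refine le_antisymm ?_ (le_topologicalKrullDim isClosed_closure (subset_closure rfl))
  rw [topologicalKrullDim_eq isClosed_closure]
  exact iSup_le fun z => by
    exact_mod_cast pdim_anti ((ProjectiveSpectrum.le_iff_mem_closure _ x z.1).2 z.2)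

/-- An irreducible closed set is the closure of a point. -/
theorem exists_genericPoint {Z : Set (ProjectiveSpectrum 𝒜)} (hZ : IsClosed Z)
    (hi : IsIrreducible Z) : ∃ g, (∀ y, y ∈ Z ↔ g ≤ y) ∧ topologicalKrullDim Z = pdim g := by
  obtain ⟨g, hg⟩ := QuasiSober.sober hi hZ
  refine ⟨g, fun y => ?_, ?_⟩
  · rw [ProjectiveSpectrum.le_iff_mem_closure, hg.def]
  · rw [← topologicalKrullDim_closure_singleton g, hg.def]

/-- An irreducible component of a closed set is the closure of one of its minimal points. -/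
theorem exists_minimal_of_mem_irreducibleComponents {Y : Set (ProjectiveSpectrum 𝒜)}
    (hY : IsClosed Y) {C : Set Y} (hC : C ∈ irreducibleComponents Y) :
    ∃ c ∈ Y, (∀ d ∈ Y, d ≤ c → d = c) ∧ topologicalKrullDim C = pdim c := by
  have hCc : IsClosed C := isClosed_of_mem_irreducibleComponents C hC
  have hemb : Topology.IsClosedEmbedding (Subtype.val : Y → ProjectiveSpectrum 𝒜) :=
    hY.isClosedEmbedding_subtypeVal
  have hc' : IsClosed (Subtype.val '' C) := hemb.isClosedMap C hCc
  have hi' : IsIrreducible (Subtype.val '' C) :=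
    hC.1.image _ continuous_subtype_val.continuousOn
  obtain ⟨c, hc, hdim⟩ := exists_genericPoint hc' hi'
  have hcC : c ∈ Subtype.val '' C := (hc c).2 le_rfl
  have hcY : c ∈ Y := by
    obtain ⟨c', -, rfl⟩ := hcC
    exact c'.2
  refine ⟨c, hcY, fun d hd hdc => ?_, ?_⟩
  · have hirr : IsIrreducible (closure ({⟨d, hd⟩} : Set Y)) := isIrreducible_singleton.closure
    have hsub : C ⊆ closure ({⟨d, hd⟩} : Set Y) := fun y hy => by
      rw [closure_subtype, Set.image_singleton, ← ProjectiveSpectrum.le_iff_mem_closure]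
      exact hdc.trans ((hc y.1).1 ⟨y, hy, rfl⟩)
    have heq := hC.2 hirr hsub
    refine le_antisymm hdc ((hc d).1 ⟨⟨d, hd⟩, heq (subset_closure rfl), rfl⟩)
  · rw [← hdim]
    exact IsHomeomorph.topologicalKrullDim_eq _
      (hemb.isEmbedding.homeomorphImage C).isHomeomorph

/-- The minimal points of a closed set cut out by a homogeneous ideal. -/
theorem mem_minimalPrimes_of_minimal {J : Ideal A} (hJ : J.IsHomogeneous 𝒜)
    {c : ProjectiveSpectrum 𝒜} (hc : J ≤ (pp c).asIdeal)
    (hmin : ∀ d : ProjectiveSpectrum 𝒜, J ≤ (pp d).asIdeal → d ≤ c → d = c) :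
    (pp c).asIdeal ∈ J.minimalPrimes := by
  obtain ⟨P, hP, hPc⟩ := Ideal.exists_minimalPrimes_le hc
  obtain ⟨d, hd⟩ := exists_point_minimal hJ hP fun h =>
    (pp_lt_vertexPoint c).not_ge (h ▸ hPc : vertex k n ≤ _)
  have := hmin d (hd ▸ hP.1.2) (pp_le_pp.1 (hd ▸ hPc))
  subst this
  exact hd ▸ hP

theorem exists_bot_point : ∃ x : ProjectiveSpectrum 𝒜, (pp x).asIdeal = ⊥ :=
  exists_point Ideal.isPrime_bot (Ideal.IsHomogeneous.bot _) fun h => by
    have : (X 0 : A) ∈ vertex k n := constantCoeff_X k 0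
    rw [← h, Ideal.mem_bot] at this
    exact X_ne_zero 0 this

theorem height_add_coheight_pp (P : PrimeSpectrum A) :
    height P + coheight P = (n + 1 : ℕ) :=
  height_add_coheight_eq k (n + 1) A (by simp [MvPolynomial.ringKrullDim_of_isNoetherianRing]) P

theorem pdim_le (x : ProjectiveSpectrum 𝒜) : pdim x ≤ n := by
  have h := le_add_self.trans_eq (height_add_coheight_pp (pp x))
  rw [coheight_pp_eq] at h
  have : pdim x + 1 ≤ n + 1 := by exact_mod_cast h
  omega

theorem pdim_eq_of_eq_bot {x : ProjectiveSpectrum 𝒜} (hx : (pp x).asIdeal = ⊥) : pdim x = n := by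
  have h := height_add_coheight_pp (pp x)
  have h0 : height (pp x) = 0 := height_eq_zero.2 fun q hq =>
    show (pp x).asIdeal ≤ q.asIdeal by rw [hx]; exact bot_le
  rw [h0, zero_add, coheight_pp_eq] at h
  have : pdim x + 1 = n + 1 := by exact_mod_cast h
  omega

section Hypersurface

theorem eq_bot_of_lt_span {p : A} (hp : Prime p) {q : PrimeSpectrum A}
    (h : q.asIdeal < Ideal.span {p}) : q.asIdeal = ⊥ := by
  by_contra h0
  obtain ⟨p', hp'q, hp'⟩ := q.2.exists_mem_prime_of_ne_bot h0
  have hd : p ∣ p' := Ideal.mem_span_singleton.1 (h.le hp'q)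
  have hass : Associated p p' := hp.associated_of_dvd hp' hd
  refine h.not_ge ((Ideal.span_singleton_le_iff_mem _).2 ?_)
  obtain ⟨c, hc⟩ := hass.symm.dvd
  rw [hc]
  exact q.asIdeal.mul_mem_right c hp'q

theorem span_isHomogeneous_of_dvd {p f : A} (hp : Prime p) (hf0 : f ≠ 0) {d : ℕ}
    (hf : f.IsHomogeneous d) (hpf : p ∣ f) : (Ideal.span {p}).IsHomogeneous 𝒜 := by
  have hP : (Ideal.span {p}).IsPrime := (Ideal.span_singleton_prime hp.ne_zero).2 hp
  refine minimalPrimes_isHomogeneous (J := Ideal.span {f}) (Ideal.homogeneous_span _ _ (by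
    rintro a (rfl : a = f)
    exact ⟨d, hf⟩)) ⟨⟨hP, ?_⟩, fun q hq hqp => ?_⟩
  · exact (Ideal.span_singleton_le_iff_mem _).2 (Ideal.mem_span_singleton.2 hpf)
  · rcases hqp.lt_or_eq with h | h
    · have h0 : q = ⊥ := eq_bot_of_lt_span hp (q := ⟨q, hq.1⟩) h
      exact absurd (by simpa [h0] using hq.2 (Ideal.subset_span rfl)) hf0
    · exact h.ge

theorem exists_isHomogeneous_of_span {g : A} (hg : g ≠ 0)
    (h : (Ideal.span {g}).IsHomogeneous 𝒜) : ∃ d, g.IsHomogeneous d := by
  refine ⟨g.totalDegree, ?_⟩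
  have hj : ∀ j, j ≠ g.totalDegree → homogeneousComponent j g = 0 := by
    intro j hne
    by_contra h0
    have hlt : j < g.totalDegree := by
      rcases lt_or_gt_of_ne hne with h' | h'
      · exact h'
      · exact absurd (homogeneousComponent_eq_zero j g h') h0
    have hmem := h j (Ideal.subset_span (Set.mem_singleton g))
    rw [proj_apply, Ideal.mem_span_singleton] at hmem
    obtain ⟨c, hc⟩ := hmem
    have hc0 : c ≠ 0 := fun h' => h0 (by rw [hc, h', mul_zero])
    have := (homogeneousComponent_isHomogeneous j g).totalDegree h0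
    rw [hc, totalDegree_mul_of_isDomain hg hc0] at this
    omega
  have : g = homogeneousComponent g.totalDegree g := by
    conv_lhs => rw [← sum_homogeneousComponent g]
    exact Finset.sum_eq_single_of_mem _ (by simp) (fun j _ hne => hj j hne)
  have h' := homogeneousComponent_isHomogeneous g.totalDegree g
  rwa [← this] at h'

theorem height_span {p : A} (hp : Prime p) {P : PrimeSpectrum A}
    (hP : P.asIdeal = Ideal.span {p}) : height P = 1 := by
  refine le_antisymm (height_le fun l hl => ?_) ?_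
  · by_contra hlen
    push Not at hlen
    have hlen' : 1 < l.length := by exact_mod_cast hlen
    have h1 : l ⟨0, by omega⟩ < l ⟨1, by omega⟩ := l.strictMono (show (⟨0, _⟩ : Fin _) < ⟨1, _⟩ from Nat.zero_lt_one)
    have h2 : l ⟨1, by omega⟩ < l ⟨l.length, by omega⟩ := l.strictMono (show (⟨1, _⟩ : Fin _) < ⟨l.length, _⟩ from hlen')
    have h3 : (l ⟨1, by omega⟩).asIdeal = ⊥ := eq_bot_of_lt_span hp (by
      rw [← hP, ← hl]
      exact h2)
    have h4 : (l ⟨0, by omega⟩).asIdeal < (l ⟨1, by omega⟩).asIdeal := h1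
    rw [h3] at h4
    exact not_lt_bot h4
  · have h : (⟨⊥, Ideal.isPrime_bot⟩ : PrimeSpectrum A) < P :=
      lt_iff_le_not_ge.2 ⟨(bot_le : (⊥ : Ideal A) ≤ P.asIdeal), fun h => hp.ne_zero (by
        have h' : P.asIdeal ≤ ⊥ := h
        rw [hP, le_bot_iff, Ideal.span_singleton_eq_bot] at h'
        exact h')⟩
    exact le_trans le_add_self (height_add_one_le h)

theorem exists_point_span {p f : A} (hn : 0 < n) (hp : Prime p) (hf0 : f ≠ 0) {d : ℕ}
    (hf : f.IsHomogeneous d) (hpf : p ∣ f) :
    ∃ x : ProjectiveSpectrum 𝒜, (pp x).asIdeal = Ideal.span {p} ∧ pdim x + 1 = n := by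
  have hP : (Ideal.span {p}).IsPrime := (Ideal.span_singleton_prime hp.ne_zero).2 hp
  have hh := height_span hp (P := ⟨_, hP⟩) rfl
  have hsum := height_add_coheight_pp (⟨Ideal.span {p}, hP⟩ : PrimeSpectrum A)
  obtain ⟨x, hx⟩ := exists_point hP (span_isHomogeneous_of_dvd hp hf0 hf hpf) fun h => by
    rw [show (⟨Ideal.span {p}, hP⟩ : PrimeSpectrum A) = vertexPoint k n from PrimeSpectrum.ext h] at hh hsum
    rw [hh, coheight_vertexPoint, add_zero] at hsum
    have : 1 = n + 1 := by exact_mod_cast hsum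
    omega
  refine ⟨x, hx, ?_⟩
  rw [show (⟨Ideal.span {p}, hP⟩ : PrimeSpectrum A) = pp x from PrimeSpectrum.ext hx.symm] at hh hsum
  rw [hh, coheight_pp_eq] at hsum
  have : 1 + (pdim x + 1) = n + 1 := by exact_mod_cast hsum
  omega

/-- A point of dimension at least `n - 1` whose prime contains a nonzero `f` is cut out by a prime
factor of `f`. -/
theorem exists_prime_of_pdim {z : ProjectiveSpectrum 𝒜} (hz : n ≤ pdim z + 1)
    (hne : (pp z).asIdeal ≠ ⊥) : ∃ p : A, Prime p ∧ (pp z).asIdeal = Ideal.span {p} := by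
  obtain ⟨p, hpz, hp⟩ := (pp z).2.exists_mem_prime_of_ne_bot hne
  refine ⟨p, hp, ?_⟩
  have hle : Ideal.span {p} ≤ (pp z).asIdeal := (Ideal.span_singleton_le_iff_mem _).2 hpz
  rcases hle.lt_or_eq with h | h
  · have h1 : (⟨_, (Ideal.span_singleton_prime hp.ne_zero).2 hp⟩ : PrimeSpectrum A) < pp z := h
    have h2 := height_add_one_le h1
    rw [height_span hp rfl] at h2
    have h3 := (add_le_add_left h2 (coheight (pp z))).trans_eq (height_add_coheight_pp (pp z))
    rw [coheight_pp_eq] at h3
    have : 1 + 1 + (pdim z + 1) ≤ n + 1 := by exact_mod_cast h3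
    omega
  · exact h.symm

end Hypersurface

end Groth.Agent.VarDim.ProjN
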