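import Groth.Agent.VarDim.Fibre
import Groth.Agent.VarDim.Proj
import Mathlib.RingTheory.Ideal.Quotient.Operations

/-!
# Dimension of the fibres of a morphism: lower bound and generic upper bound

For a specialization `z ⤳ x`, the fibre through `x` has, inside the closure of `z`, dimension at
least `fdeg f z`; near `z` it has dimension at most `fdeg f z`.
-/

namespace Groth.Agent.VarDim

open AlgebraicGeometry CategoryTheory Order TopologicalSpace

universe u

section Ring

variable (k : Type u) [Field k]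
variable {A B : Type u} [CommRing A] [CommRing B] [Algebra k B] [Algebra.FiniteType k B]

include k in
/-- A prime `m ≥ q` is cut out, up to minimality, by `dim B/q - dim B/m` equations modulo `q`. -/
theorem exists_finset_cut {q m : PrimeSpectrum B} (h : q ≤ m) :
    ∃ s : Finset B, m.asIdeal ∈ (q.asIdeal ⊔ Ideal.span (s : Set B)).minimalPrimes ∧
      coheight m + s.card = coheight q := by
  classical
  have := Algebra.FiniteType.isNoetherianRing k B
  obtain ⟨d, hd, -⟩ := exists_dim_eq_trdeg k (B ⧸ q.asIdeal)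
  let π : B →+* B ⧸ q.asIdeal := Ideal.Quotient.mk _
  have hsurj : Function.Surjective π := Ideal.Quotient.mk_surjective
  let m' : PrimeSpectrum (B ⧸ q.asIdeal) := ⟨m.asIdeal.map π,
    Ideal.map_isPrime_of_surjective hsurj (by rw [Ideal.mk_ker]; exact h)⟩
  have hcm : (m.asIdeal.map π).comap π = m.asIdeal := by
    rw [Ideal.comap_map_of_surjective π hsurj, sup_eq_left.2]
    rw [← RingHom.ker_eq_comap_bot, Ideal.mk_ker]
    exact h
  have hco : coheight m' = coheight m := by
    refine WithBot.coe_inj.1 ?_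
    rw [coheight_eq_ringKrullDim_quotient, coheight_eq_ringKrullDim_quotient]
    exact ringKrullDim_eq_of_ringEquiv (DoubleQuot.quotQuotEquivQuotOfLE h)
  have := m'.2
  obtain ⟨s, hs, hcard⟩ := Ideal.exists_finset_card_eq_height_of_isNoetherianRing m'.asIdeal
  have hlift : ∀ a, π (Function.surjInv hsurj a) = a := Function.surjInv_eq hsurj
  refine ⟨s.image (Function.surjInv hsurj), ⟨⟨m.2, sup_le h (Ideal.span_le.2 ?_)⟩, fun S hS hSm => ?_⟩, ?_⟩
  · rw [Finset.coe_image]
    rintro _ ⟨a, ha, rfl⟩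
    have : a ∈ m'.asIdeal := hs.1.2 (Ideal.subset_span ha)
    rw [← hlift a] at this
    exact hcm.le (Ideal.mem_comap.2 this)
  · have hqS : q.asIdeal ≤ S := le_sup_left.trans hS.2
    have hSp : (S.map π).IsPrime :=
      Ideal.map_isPrime_of_surjective (I := S) (H := hS.1) hsurj (by rw [Ideal.mk_ker]; exact hqS)
    have hle : Ideal.span (s : Set (B ⧸ q.asIdeal)) ≤ S.map π := Ideal.span_le.2 fun a ha => by
      rw [← hlift a]
      exact Ideal.mem_map_of_mem π (hS.2 (Ideal.mem_sup_right (Ideal.subset_span (by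
        rw [Finset.coe_image]; exact ⟨a, ha, rfl⟩))))
    have := hs.2 ⟨hSp, hle⟩ (Ideal.map_mono hSm)
    rw [← hcm]
    refine (Ideal.comap_mono this).trans ?_
    rw [Ideal.comap_map_of_surjective π hsurj]
    refine sup_le le_rfl ?_
    rw [← RingHom.ker_eq_comap_bot, Ideal.mk_ker]
    exact hqS
  · rw [Finset.card_image_of_injective _ (Function.injective_surjInv hsurj), hcard,
      PrimeSpectrum.height_eq_orderHeight, ← hco, add_comm,
      height_add_coheight_eq k d (B ⧸ q.asIdeal) hd m']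
    exact (WithBot.coe_inj.1 ((coheight_eq_ringKrullDim_quotient q).trans hd)).symm

include k in
/-- **Lower bound for the dimension of fibres**, algebraic form. -/
theorem exists_fibre_prime [Algebra k A] [Algebra.FiniteType k A] (φ : B →+* A)
    {P M : PrimeSpectrum A} (h : P ≤ M) :
    ∃ M' : PrimeSpectrum A, P ≤ M' ∧ M' ≤ M ∧
      PrimeSpectrum.comap φ M' = PrimeSpectrum.comap φ M ∧
      coheight P + coheight (PrimeSpectrum.comap φ M) ≤
        coheight M' + coheight (PrimeSpectrum.comap φ P) := by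
  classical
  have hqm : PrimeSpectrum.comap φ P ≤ PrimeSpectrum.comap φ M := Ideal.comap_mono h
  obtain ⟨s, hs, hcard⟩ := exists_finset_cut k hqm
  have hle : P.asIdeal ⊔ Ideal.span ((s.image φ : Finset A) : Set A) ≤ M.asIdeal := by
    refine sup_le h (Ideal.span_le.2 ?_)
    rw [Finset.coe_image]
    rintro _ ⟨a, ha, rfl⟩
    exact hs.1.2 (Ideal.mem_sup_right (Ideal.subset_span ha))
  obtain ⟨M', hM', hM'M⟩ := Ideal.exists_minimalPrimes_le hle
  let N : PrimeSpectrum A := ⟨M', hM'.1.1⟩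
  have hPN : P ≤ N := le_sup_left.trans hM'.1.2
  have hcomap : PrimeSpectrum.comap φ N = PrimeSpectrum.comap φ M := by
    refine PrimeSpectrum.ext (le_antisymm (Ideal.comap_mono hM'M) (hs.2 ⟨(PrimeSpectrum.comap φ N).2,
      sup_le (Ideal.comap_mono hPN) (Ideal.span_le.2 fun a ha => ?_)⟩ (Ideal.comap_mono hM'M)))
    exact hM'.1.2 (Ideal.mem_sup_right (Ideal.subset_span (by
      rw [Finset.coe_image]; exact ⟨a, ha, rfl⟩)))
  have h1 := ProjN.coheight_le_of_mem_minimalPrimes_sup (k := k) (q := P) (p := N) (s.image φ) hM'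
  refine ⟨N, hPN, hM'M, hcomap, ?_⟩
  rw [← hcard, add_comm (coheight (PrimeSpectrum.comap φ M)) (s.card : ℕ∞), ← add_assoc]
  exact add_le_add_left (h1.trans (add_le_add_right (Nat.cast_le.2 Finset.card_image_le) _)) _

/-- **Generic upper bound for the dimension of fibres**, algebraic form. -/
theorem exists_trdeg_le [Algebra B A] [Algebra.FiniteType B A] (P : PrimeSpectrum A) :
    ∃ c, c ∉ P.asIdeal ∧ ∀ M : PrimeSpectrum A, P ≤ M → c ∉ M.asIdeal →
      Algebra.trdeg (B ⧸ (PrimeSpectrum.comap (algebraMap B A) M).asIdeal) (A ⧸ M.asIdeal) ≤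
      Algebra.trdeg (B ⧸ (PrimeSpectrum.comap (algebraMap B A) P).asIdeal) (A ⧸ P.asIdeal) := by
  classical
  set q := (PrimeSpectrum.comap (algebraMap B A) P).asIdeal
  have : P.asIdeal.LiesOver q := ⟨rfl⟩
  let S := A ⧸ P.asIdeal
  let R := B ⧸ q
  let π : A →+* S := Ideal.Quotient.mk _
  obtain ⟨G, hG⟩ := (inferInstance : Algebra.FiniteType B A).out
  have hgen : Algebra.adjoin R (π '' (G : Set A)) = ⊤ := by
    refine Algebra.eq_top_iff.2 fun x => ?_
    obtain ⟨a, rfl⟩ := Ideal.Quotient.mk_surjective x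
    have ha : a ∈ Algebra.adjoin B (G : Set A) := hG ▸ Algebra.mem_top
    induction ha using Algebra.adjoin_induction with
    | mem y hy => exact Algebra.subset_adjoin ⟨y, hy, rfl⟩
    | algebraMap b => exact Subalgebra.algebraMap_mem _ (Ideal.Quotient.mk q b : R)
    | add y z _ _ hy hz => rw [map_add]; exact add_mem hy hz
    | mul y z _ _ hy hz => rw [map_mul]; exact mul_mem hy hz
  have halg : Algebra.IsAlgebraic (Algebra.adjoin R (π '' (G : Set A))) S :=
    ⟨fun x => isAlgebraic_algebraMap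
      (⟨x, hgen ▸ Algebra.mem_top⟩ : Algebra.adjoin R (π '' (G : Set A)))⟩
  obtain ⟨T, hTG, hT⟩ := exists_isTranscendenceBasis_subset (R := R) (π '' (G : Set A))
  have halgT : ∀ x : S, IsAlgebraic (Algebra.adjoin R T) x := by
    have h := hT.isAlgebraic
    rw [Subtype.range_coe] at h
    exact h.1
  choose p hp0 hp using halgT
  let c₀ : S := ∏ x ∈ G, (((p (π x)).leadingCoeff : Algebra.adjoin R T) : S)
  have hc₀ : c₀ ≠ 0 := Finset.prod_ne_zero_iff.2 fun x _ h =>
    hp0 (π x) (Polynomial.leadingCoeff_eq_zero.1 (Subtype.ext h))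
  obtain ⟨c, hc⟩ := Ideal.Quotient.mk_surjective (I := P.asIdeal) c₀
  refine ⟨c, fun h => hc₀ (hc ▸ Ideal.Quotient.eq_zero_iff_mem.2 h), fun M hPM hcM => ?_⟩
  set m := (PrimeSpectrum.comap (algebraMap B A) M).asIdeal
  have : M.asIdeal.LiesOver m := ⟨rfl⟩
  have hqm : q ≤ m := Ideal.comap_mono hPM
  let g : S →+* A ⧸ M.asIdeal := Ideal.Quotient.factor hPM
  let T' : Set (A ⧸ M.asIdeal) := g '' T
  let K := Algebra.adjoin (B ⧸ m) T'
  have hg : ∀ r : R, g (algebraMap R S r) = algebraMap (B ⧸ m) (A ⧸ M.asIdeal) (Ideal.Quotient.factor hqm r) := by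
    intro r
    obtain ⟨b, rfl⟩ := Ideal.Quotient.mk_surjective r
    rfl
  have hmem : ∀ x : Algebra.adjoin R T, g x ∈ K := by
    rintro ⟨x, hx⟩
    induction hx using Algebra.adjoin_induction with
    | mem y hy => exact Algebra.subset_adjoin ⟨y, hy, rfl⟩
    | algebraMap b => exact (hg b).symm ▸ Subalgebra.algebraMap_mem _ _
    | add y z _ _ hy hz => exact (map_add g y z).symm ▸ add_mem hy hz
    | mul y z _ _ hy hz => exact (map_mul g y z).symm ▸ mul_mem hy hz
  let ψ : Algebra.adjoin R T →+* K :=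
    (g.comp (Algebra.adjoin R T).val.toRingHom).codRestrict K.toSubring hmem
  have hgenalg : ∀ y ∈ g '' (π '' (G : Set A)), IsAlgebraic K y := by
    rintro _ ⟨_, ⟨x, hx, rfl⟩, rfl⟩
    refine ⟨(p (π x)).map ψ, ?_, ?_⟩
    · intro h
      have h1 : ψ (p (π x)).leadingCoeff = 0 := by
        rw [Polynomial.leadingCoeff, ← Polynomial.coeff_map, h, Polynomial.coeff_zero]
      have h2 : g (((p (π x)).leadingCoeff : Algebra.adjoin R T) : S) = 0 := congrArg Subtype.val h1
      have h3 : g c₀ = 0 := by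
        simp only [c₀, map_prod]
        exact Finset.prod_eq_zero hx h2
      rw [← hc] at h3
      exact hcM (Ideal.Quotient.eq_zero_iff_mem.1 h3)
    · have h := congrArg g (hp (π x))
      rw [map_zero, Polynomial.aeval_def, Polynomial.hom_eval₂] at h
      rw [Polynomial.aeval_def, Polynomial.eval₂_map]
      exact h
  have halgK : Algebra.IsAlgebraic K (A ⧸ M.asIdeal) := by
    refine ⟨fun y => Algebra.isAlgebraic_adjoin_iff.2 hgenalg y ?_⟩
    obtain ⟨a, rfl⟩ := Ideal.Quotient.mk_surjective y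
    have ha : a ∈ Algebra.adjoin B (G : Set A) := hG ▸ Algebra.mem_top
    induction ha using Algebra.adjoin_induction with
    | mem y hy => exact Algebra.subset_adjoin ⟨_, ⟨y, hy, rfl⟩, rfl⟩
    | algebraMap b =>
      exact Subalgebra.algebraMap_mem _ (algebraMap (B ⧸ m) K (Ideal.Quotient.mk m b))
    | add y z _ _ hy hz => rw [map_add]; exact add_mem hy hz
    | mul y z _ _ hy hz => rw [map_mul]; exact mul_mem hy hz
  refine (Algebra.IsAlgebraic.trdeg_le_cardinalMk (R := B ⧸ m) (s := T')).trans ?_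
  rw [← hT.cardinalMk_eq_trdeg]
  exact Cardinal.mk_image_le

end Ring

variable {k : Type u} [Field k] {X Y : Scheme.{u}}

/-- Affine charts around a point, adapted to a morphism. -/
theorem exists_charts (f : X ⟶ Y) (x : X) :
    ∃ (U : Y.Opens) (hU : IsAffineOpen U) (V : X.Opens) (hV : IsAffineOpen V) (e : V ≤ f ⁻¹ᵁ U),
      x ∈ V ∧ ∀ M : PrimeSpectrum Γ(X, V), f (hV.fromSpec M) = hU.fromSpec (PrimeSpectrum.comap (f.appLE U V e).hom M) := by
  obtain ⟨U, hU, hxU, -⟩ := exists_isAffineOpen_mem_and_subset (x := f x) (U := ⊤) trivial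
  obtain ⟨V, hV, hxV, hVU⟩ := exists_isAffineOpen_mem_and_subset (x := x) (U := f ⁻¹ᵁ U) hxU
  refine ⟨U, hU, V, hV, hVU, hxV, fun M => ?_⟩
  have h := IsAffineOpen.SpecMap_appLE_fromSpec f hU hV hVU
  exact (congrArg (fun g : Spec Γ(X, V) ⟶ Y => g M) h).symm

variable (f : X ⟶ Y) (q : Y ⟶ Spec (CommRingCat.of k)) [LocallyOfFiniteType f] [LocallyOfFiniteType q]

include q in
/-- **Lower bound for the dimension of fibres**: the fibre through a specialization `x` of `z` has,
inside the closure of `z`, a point `x'` generalizing `x` with `fdeg f z ≤ fdeg f x'`. -/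
theorem exists_fdeg_ge {z x : X} (h : z ⤳ x) :
    ∃ x', z ⤳ x' ∧ x' ⤳ x ∧ f x' = f x ∧ fdeg f z ≤ fdeg f x' := by
  obtain ⟨U, hU, V, hV, e, hx, hmap⟩ := exists_charts f x
  obtain ⟨P, rfl⟩ := exists_fromSpec_eq hV (h.mem_open V.2 hx)
  obtain ⟨M, rfl⟩ := exists_fromSpec_eq hV hx
  obtain ⟨_, hB⟩ := exists_algebra q hU
  obtain ⟨_, hA⟩ := exists_algebra (f ≫ q) hV
  obtain ⟨M', h1, h2, h3, h4⟩ :=
    exists_fibre_prime k (f.appLE U V e).hom ((fromSpec_specializes_iff hV P M).1 h)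
  refine ⟨hV.fromSpec M', (fromSpec_specializes_iff hV P M').2 h1,
    (fromSpec_specializes_iff hV M' M).2 h2, by rw [hmap, hmap, h3], ?_⟩
  rw [deg_eq_coheight (f ≫ q) hV, deg_eq_coheight (f ≫ q) hV, deg_eq_coheight q hU,
    deg_eq_coheight q hU, ← hmap, ← hmap, deg_comp_eq, deg_comp_eq, ← Nat.cast_add, ← Nat.cast_add,
    Nat.cast_le] at h4
  have h5 : f (hV.fromSpec M') = f (hV.fromSpec M) := by rw [hmap, hmap, h3]
  rw [h5] at h4
  omega

include q in
/-- **Generic upper bound for the dimension of fibres.** -/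
theorem exists_open_fdeg_le (z : X) :
    ∃ W : X.Opens, z ∈ W ∧ ∀ x ∈ W, z ⤳ x → fdeg f x ≤ fdeg f z := by
  obtain ⟨U, hU, V, hV, e, hz, hmap⟩ := exists_charts f z
  obtain ⟨P, rfl⟩ := exists_fromSpec_eq hV hz
  obtain ⟨_, hB⟩ := exists_algebra q hU
  letI : Algebra Γ(Y, U) Γ(X, V) := (f.appLE U V e).hom.toAlgebra
  have hBA : Algebra.FiniteType Γ(Y, U) Γ(X, V) :=
    RingHom.finiteType_algebraMap.1 (f.finiteType_appLE hU hV e)
  letI : Algebra k Γ(X, V) := ((algebraMap Γ(Y, U) Γ(X, V)).comp (algebraMap k Γ(Y, U))).toAlgebra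
  have : IsScalarTower k Γ(Y, U) Γ(X, V) := IsScalarTower.of_algebraMap_eq fun _ => rfl
  have hA : Algebra.FiniteType k Γ(X, V) := Algebra.FiniteType.trans hB hBA
  have key : ∀ M : PrimeSpectrum Γ(X, V),
      (fdeg f (hV.fromSpec M) : Cardinal) =
        Algebra.trdeg (Γ(Y, U) ⧸ (PrimeSpectrum.comap (algebraMap Γ(Y, U) Γ(X, V)) M).asIdeal)
          (Γ(X, V) ⧸ M.asIdeal) := by
    intro M
    set m := PrimeSpectrum.comap (algebraMap Γ(Y, U) Γ(X, V)) M with hm
    have : M.asIdeal.LiesOver m.asIdeal := ⟨rfl⟩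
    obtain ⟨a, ha, ha'⟩ := exists_dim_eq_trdeg k (Γ(X, V) ⧸ M.asIdeal)
    obtain ⟨b, hb, hb'⟩ := exists_dim_eq_trdeg k (Γ(Y, U) ⧸ m.asIdeal)
    have hM : coheight M = a := WithBot.coe_inj.1 ((coheight_eq_ringKrullDim_quotient M).trans ha)
    have hm' : coheight m = b := WithBot.coe_inj.1 ((coheight_eq_ringKrullDim_quotient m).trans hb)
    rw [deg_eq_coheight (f ≫ q) hV, deg_comp_eq] at hM
    rw [deg_eq_coheight q hU] at hm'
    have hfx : f (hV.fromSpec M) = hU.fromSpec m := hmap M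
    rw [hfx] at hM
    have hab : deg q (hU.fromSpec m) + fdeg f (hV.fromSpec M) = a := by exact_mod_cast hM
    have hmb : deg q (hU.fromSpec m) = b := by exact_mod_cast hm'
    rw [hmb] at hab
    have : FaithfulSMul (Γ(Y, U) ⧸ m.asIdeal) (Γ(X, V) ⧸ M.asIdeal) :=
      (faithfulSMul_iff_algebraMap_injective _ _).2 Ideal.algebraMap_quotient_injective
    have htw : IsScalarTower k (Γ(Y, U) ⧸ m.asIdeal) (Γ(X, V) ⧸ M.asIdeal) :=
      IsScalarTower.of_algebraMap_eq fun _ => rfl
    have hsum := trdeg_add_eq k (Γ(Y, U) ⧸ m.asIdeal) (A := Γ(X, V) ⧸ M.asIdeal)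
    rw [ha', hb', ← hab, Nat.cast_add] at hsum
    exact (Cardinal.eq_of_add_eq_add_left hsum (Cardinal.nat_lt_aleph0 b)).symm
  obtain ⟨c, hcP, hc⟩ := exists_trdeg_le (B := Γ(Y, U)) P
  have hmemc : ∀ M : PrimeSpectrum Γ(X, V), hV.fromSpec M ∈ X.basicOpen c ↔ c ∉ M.asIdeal := by
    intro M
    have : hV.fromSpec M ∈ X.basicOpen c ↔ M ∈ (hV.fromSpec ⁻¹ᵁ X.basicOpen c) := Iff.rfl
    rw [this, hV.fromSpec_preimage_basicOpen]
    exact Iff.rfl
  refine ⟨X.basicOpen c, (hmemc P).2 hcP, fun x hx hzx => ?_⟩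
  obtain ⟨M, rfl⟩ := exists_fromSpec_eq hV (X.basicOpen_le c hx)
  have h := hc M ((fromSpec_specializes_iff hV P M).1 hzx) ((hmemc M).1 hx)
  rw [← key, ← key] at h
  exact_mod_cast h

end Groth.Agent.VarDim
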