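import Groth.Agent.VarDim.FibreDim
import Mathlib.AlgebraicGeometry.Morphisms.FinitePresentation
import Mathlib.Topology.Constructible

/-!
# Morphisms whose fibres over closed points are irreducible of constant dimension
-/

namespace Groth.Agent.VarDim

open AlgebraicGeometry CategoryTheory Order TopologicalSpace Topology

universe u

section Topology

/-- A constructible set containing the generic point contains a nonempty open set. -/
theorem mem_nhds_of_isConstructible {T : Type*} [TopologicalSpace T] {η : T}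
    (hη : ∀ x, η ⤳ x) {s : Set T} (hs : IsConstructible s) :
    (η ∈ s → s ∈ 𝓝 η) ∧ (η ∉ s → sᶜ ∈ 𝓝 η) := by
  induction hs using IsConstructible.empty_union_induction with
  | open_retrocompact U hU hc =>
    refine ⟨fun h => hU.mem_nhds h, fun h => ?_⟩
    have : U = ∅ := Set.eq_empty_iff_forall_notMem.2 fun x hx => h ((hη x).mem_open hU hx)
    simp [this]
  | union s hs t ht hs' ht' =>
    refine ⟨?_, fun h => ?_⟩
    · rintro (h | h)
      · exact Filter.mem_of_superset (hs'.1 h) Set.subset_union_left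
      · exact Filter.mem_of_superset (ht'.1 h) Set.subset_union_right
    · rw [Set.compl_union]
      exact Filter.inter_mem (hs'.2 fun h' => h (Or.inl h')) (ht'.2 fun h' => h (Or.inr h'))
  | compl s hs hs' =>
    exact ⟨hs'.2, fun h => by rw [compl_compl]; exact hs'.1 (not_not.1 h)⟩

end Topology

variable {k : Type u} [Field k] {X Y : Scheme.{u}}

section Components

/-- The generic point of an irreducible component, with its universal property. -/
theorem exists_generic_of_component {Z : Set X} (hZ : Z ∈ irreducibleComponents X) :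
    ∃ z, Z = closure {z} ∧ ∀ y, y ⤳ z → y = z := by
  have hc : closure {hZ.1.genericPoint} = Z := by
    rw [hZ.1.genericPoint_closure_eq, (isClosed_of_mem_irreducibleComponents Z hZ).closure_eq]
  refine ⟨hZ.1.genericPoint, hc.symm, fun y hy => ?_⟩
  have hsub : Z ⊆ closure {y} :=
    hc ▸ closure_minimal (Set.singleton_subset_iff.2 (specializes_iff_mem_closure.1 hy)) isClosed_closure
  exact (hy.antisymm (specializes_iff_mem_closure.2
    (hc.symm ▸ (hZ.2 isIrreducible_singleton.closure hsub) (subset_closure rfl)))).eq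

theorem closure_mem_irreducibleComponents {z : X} (hz : ∀ y, y ⤳ z → y = z) :
    closure {z} ∈ irreducibleComponents X := by
  obtain ⟨C, hC, hsub⟩ := exists_mem_irreducibleComponents_subset_of_isIrreducible (closure {z})
    isIrreducible_singleton.closure
  obtain ⟨c, rfl, -⟩ := exists_generic_of_component hC
  rw [hz c (specializes_iff_mem_closure.2 (hsub (subset_closure rfl)))] at hC
  exact hC

variable (p : X ⟶ Spec (CommRingCat.of k)) [LocallyOfFiniteType p]

include p in
/-- Open sets contain closed points. -/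
theorem exists_closed_mem {U : X.Opens} {z : X} (hz : z ∈ U) :
    ∃ c ∈ U, z ⤳ c ∧ IsClosed ({c} : Set X) := by
  obtain ⟨c, hzc, hc⟩ := exists_closed_specialization (U.ι ≫ p) (⟨z, hz⟩ : U)
  refine ⟨c.1, c.2, (subtype_specializes_iff _ _).1 hzc, (closedPoint_iff_deg_eq_zero p _).2 ?_⟩
  rw [← (closedPoint_iff_deg_eq_zero (U.ι ≫ p) c).1 hc]
  exact (deg_comp p U.ι c).symm

include p in
/-- The points lying only on the component of a maximal point form a neighbourhood. -/
theorem exists_nhd_component [CompactSpace X] {z : X} (hz : ∀ y, y ⤳ z → y = z) :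
    ∃ U : X.Opens, z ∈ U ∧ ∀ x ∈ U, ∀ y, (∀ w, w ⤳ y → w = y) → y ⤳ x → y = z := by
  have : IsLocallyNoetherian X := LocallyOfFiniteType.isLocallyNoetherian p
  have : IsNoetherian X := { }
  have hfin : (irreducibleComponents X).Finite :=
    TopologicalSpace.NoetherianSpace.finite_irreducibleComponents
  let S := {C ∈ irreducibleComponents X | C ≠ closure {z}}
  have hcl : IsClosed (⋃ C ∈ S, C) :=
    (hfin.subset fun C hC => hC.1).isClosed_biUnion fun C hC =>
      isClosed_of_mem_irreducibleComponents C hC.1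
  refine ⟨⟨_, hcl.isOpen_compl⟩, ?_, fun x hx y hy hyx => ?_⟩
  · intro h
    obtain ⟨C, hC, hzC⟩ := Set.mem_iUnion₂.1 h
    obtain ⟨c, rfl, -⟩ := exists_generic_of_component hC.1
    exact hC.2 (by rw [hz c (specializes_iff_mem_closure.2 hzC)])
  · by_contra hne
    refine hx (Set.mem_iUnion₂.2 ⟨closure {y}, ⟨closure_mem_irreducibleComponents hy, fun h => ?_⟩,
      specializes_iff_mem_closure.1 hyx⟩)
    have hzy : z ∈ closure ({y} : Set X) := h.symm ▸ subset_closure rfl
    exact hne (hz y (specializes_iff_mem_closure.2 hzy))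

end Components

variable {p : X ⟶ Spec (CommRingCat.of k)} [LocallyOfFiniteType p] [CompactSpace X]
  (f : X ⟶ Y) (q : Y ⟶ Spec (CommRingCat.of k)) [LocallyOfFiniteType q] (hf : f ≫ q = p) (d : ℕ)
  (hirr : ∀ y : Y, IsClosed ({y} : Set Y) → IsIrreducible (f ⁻¹' {y}))
  (hdim : ∀ y : Y, IsClosed ({y} : Set Y) → topologicalKrullDim ↥(f ⁻¹' {y}) = d)

include hf in
theorem locallyOfFiniteType_of_over : LocallyOfFiniteType f := by
  subst hf
  exact locallyOfFiniteType_of_comp f q

include hirr hdim hf in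
/-- A closed fibre has a generic point, of dimension `d`. -/
theorem exists_fibre_generic {y : Y} (hy : IsClosed ({y} : Set Y)) :
    ∃ g, f g = y ∧ deg p g = d ∧ (∀ x, f x = y → g ⤳ x ∧ fdeg f x ≤ d) ∧ fdeg f g = d := by
  have := locallyOfFiniteType_of_over f q hf
  have hcl : IsClosed (f ⁻¹' {y}) := hy.preimage f.continuous
  obtain ⟨g, hg⟩ := QuasiSober.sober (hirr y hy) hcl
  have hgy : f g = y := hg.mem
  have h0 := (closedPoint_iff_deg_eq_zero q y).1 hy
  have hgd : ((deg p g : ℕ∞) : WithBot ℕ∞) = d := by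
    rw [← topologicalKrullDim_closure_singleton p, hg.def]
    exact hdim y hy
  have hgd' : deg p g = d := by exact_mod_cast hgd
  refine ⟨g, hgy, hgd', fun x hx => ?_, ?_⟩
  · have hgx : g ⤳ x := specializes_iff_mem_closure.2 (hg.def.symm ▸ hx)
    refine ⟨hgx, ?_⟩
    have h := deg_le_of_specializes p hgx
    rw [deg_eq_add f q hf x, hx, h0, zero_add, hgd'] at h
    exact h
  · rw [deg_eq_add f q hf g, hgy, h0, zero_add] at hgd'
    exact hgd'

include hirr hdim hf in
/-- All components are fibred in dimension `d`, and consist of whole fibres. -/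
theorem component_spec {z : X} (hz : ∀ y, y ⤳ z → y = z) :
    fdeg f z = d ∧ deg p z = deg q (f z) + d ∧
      ∀ x, z ⤳ x → IsClosed ({f x} : Set Y) → ∀ x', f x' = f x → z ⤳ x' := by
  have := locallyOfFiniteType_of_over f q hf
  obtain ⟨U, hzU, hU⟩ := exists_nhd_component p hz
  obtain ⟨W, hzW, hW⟩ := exists_open_fdeg_le f q z
  obtain ⟨c, ⟨hcU, hcW⟩, hzc, hc⟩ := exists_closed_mem p (U := U ⊓ W) (⟨hzU, hzW⟩ : z ∈ U ⊓ W)
  have hfc : IsClosed ({f c} : Set Y) := by
    rw [closedPoint_iff_deg_eq_zero q]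
    have := deg_map_le f q hf c
    have := (closedPoint_iff_deg_eq_zero p c).1 hc
    omega
  obtain ⟨g, hg, -, hgmax, hgd⟩ := exists_fibre_generic f q hf d hirr hdim hfc
  obtain ⟨z', hz'g, hz'⟩ := exists_maximal_generalization p g
  have hzg : z ⤳ g := by
    rwa [hU c hcU z' hz' (hz'g.trans (hgmax c rfl).1)] at hz'g
  have hfd : fdeg f z = d := by
    refine le_antisymm ?_ ?_
    · obtain ⟨x', -, -, hx', hle⟩ := exists_fdeg_ge f q hzc
      exact hle.trans (hgmax x' hx').2
    · rw [← hgd]
      exact hW g (((hgmax c rfl).1).mem_open W.2 hcW) hzg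
  refine ⟨hfd, by rw [deg_eq_add f q hf z, hfd], fun x hzx hfx x' hx' => ?_⟩
  obtain ⟨g', hg', hg'd, hg'max, -⟩ := exists_fibre_generic f q hf d hirr hdim hfx
  obtain ⟨w, hzw, -, hw, hle⟩ := exists_fdeg_ge f q hzx
  obtain ⟨hgw, -⟩ := hg'max w hw
  have heq : g' = w := eq_of_specializes_of_deg_le p hgw (by
    rw [hg'd, deg_eq_add f q hf w, ← hfd]
    exact hle.trans (Nat.le_add_left _ _))
  exact hzw.trans (heq ▸ (hg'max x' hx').1)

variable [IrreducibleSpace Y]

include hirr hf in
theorem denseRange_of_irreducible_fibres : DenseRange f := by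
  rw [denseRange_iff_closure_range]
  refine Set.eq_univ_of_forall fun y => ?_
  rw [mem_closure_iff]
  intro U hU hy
  obtain ⟨c, hc, -, hcc⟩ := exists_closed_mem q (U := ⟨U, hU⟩) hy
  obtain ⟨x, hx⟩ := (hirr c hcc).nonempty
  exact ⟨c, hc, x, hx⟩

include hf in
/-- At most one maximal point dominates, if general closed fibres are irreducible. -/
theorem maximal_eq_of_dominant (V₀ : Y.Opens) (hV₀ : genericPoint Y ∈ V₀)
    (hirrV : ∀ y ∈ V₀, IsClosed ({y} : Set Y) → IsIrreducible (f ⁻¹' {y}))
    {z z₂ : X} (hz : ∀ y, y ⤳ z → y = z) (hzη : f z = genericPoint Y)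
    (hz₂ : ∀ y, y ⤳ z₂ → y = z₂) (hz₂η : f z₂ = genericPoint Y) : z₂ = z := by
  have := locallyOfFiniteType_of_over f q hf
  have hgen : ∀ y : Y, genericPoint Y ⤳ y := fun y => genericPoint_specializes y
  have : IsLocallyNoetherian X := LocallyOfFiniteType.isLocallyNoetherian p
  have : IsNoetherian X := { }
  have : IsLocallyNoetherian Y := LocallyOfFiniteType.isLocallyNoetherian q
  have : LocallyOfFinitePresentation f :=
    LocallyOfFinitePresentation.iff_locallyOfFiniteType.2 inferInstance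
  have : QuasiCompact f := ⟨fun U hU hc => TopologicalSpace.NoetherianSpace.isCompact _⟩
  -- work in a quasi-compact neighbourhood of the generic point
  obtain ⟨A, hA, hηA, -⟩ := exists_isAffineOpen_mem_and_subset (x := genericPoint Y) (U := ⊤) trivial
  have hnhd : ∀ w : X, (∀ y, y ⤳ w → y = w) → f w = genericPoint Y →
      ∃ (O : X.Opens) (V : Set Y), IsOpen V ∧ genericPoint Y ∈ V ∧ V ⊆ f '' O ∧
        ∀ x ∈ O, ∀ y, (∀ v, v ⤳ y → v = y) → y ⤳ x → y = w := by
    intro w hw hwη
    obtain ⟨O, hwO, hO⟩ := exists_nhd_component p hw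
    have hOc : IsConstructible ((O : Set X)) :=
      IsRetrocompact.isConstructible O.2 (fun U hU hc => TopologicalSpace.NoetherianSpace.isCompact _)
    have himg : IsConstructible ((Subtype.val ⁻¹' (f '' O) : Set A)) := by
      have : CompactSpace A := isCompact_iff_compactSpace.1 hA.isCompact
      have : PrespectralSpace A := inferInstanceAs (PrespectralSpace A.toScheme)
      have : QuasiSeparatedSpace A :=
        haveI : IsAffine A.toScheme := hA
        inferInstanceAs (QuasiSeparatedSpace A.toScheme)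
      exact @IsLocallyConstructible.isConstructible A _ _ ‹_› ‹_› ‹_›
        ((f.isLocallyConstructible_image hOc.isLocallyConstructible).preimage_of_isOpenEmbedding
          A.2.isOpenEmbedding_subtypeVal)
    have hmem : (⟨genericPoint Y, hηA⟩ : A) ∈ ((Subtype.val ⁻¹' (f '' O) : Set A)) := ⟨w, hwO, hwη⟩
    have hn := (mem_nhds_of_isConstructible (η := (⟨genericPoint Y, hηA⟩ : A))
      (fun a => (subtype_specializes_iff _ _).2 (hgen a.1)) himg).1 hmem
    obtain ⟨V, hVsub, hVo, hηV⟩ := mem_nhds_iff.1 hn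
    refine ⟨O, Subtype.val '' V, A.2.isOpenEmbedding_subtypeVal.isOpenMap V hVo,
      ⟨_, hηV, rfl⟩, ?_, hO⟩
    rintro _ ⟨a, ha, rfl⟩
    exact hVsub ha
  obtain ⟨O₁, V₁, hV₁o, hηV₁, hV₁, hO₁⟩ := hnhd z hz hzη
  obtain ⟨O₂, V₂, hV₂o, hηV₂, hV₂, hO₂⟩ := hnhd z₂ hz₂ hz₂η
  obtain ⟨c, ⟨⟨hc₁, hc₂⟩, hcV⟩, -, hcc⟩ := exists_closed_mem q
    (U := ⟨V₁ ∩ V₂, hV₁o.inter hV₂o⟩ ⊓ V₀) (z := genericPoint Y) ⟨⟨hηV₁, hηV₂⟩, hV₀⟩
  obtain ⟨x₁, hx₁, hfx₁⟩ := hV₁ hc₁
  obtain ⟨x₂, hx₂, hfx₂⟩ := hV₂ hc₂
  obtain ⟨g, hg'⟩ := QuasiSober.sober (hirrV c hcV hcc) (hcc.preimage f.continuous)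
  have hg : ∀ x, f x = c → g ⤳ x := fun x hx => specializes_iff_mem_closure.2 (hg'.def.symm ▸ hx)
  obtain ⟨z', hz'g, hz'⟩ := exists_maximal_generalization p g
  rw [← hO₁ x₁ hx₁ z' hz' (hz'g.trans (hg x₁ hfx₁)), ← hO₂ x₂ hx₂ z' hz' (hz'g.trans (hg x₂ hfx₂))]

include hirr hdim hf in
/-- There is exactly one maximal point over the generic point. -/
theorem existsUnique_dominant :
    ∃! z : X, (∀ y, y ⤳ z → y = z) ∧ f z = genericPoint Y := by
  have := locallyOfFiniteType_of_over f q hf
  have hgen : ∀ y : Y, genericPoint Y ⤳ y := fun y => genericPoint_specializes y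
  have hmaxY : ∀ y, y ⤳ genericPoint Y → y = genericPoint Y := fun y hy => (hy.antisymm (hgen y)).eq
  obtain ⟨x, hx⟩ := mem_range_of_maximal p f (η := genericPoint Y)
    (by rw [(denseRange_of_irreducible_fibres f q hf hirr).closure_range]; trivial) hmaxY
  obtain ⟨z, hzx, hz⟩ := exists_maximal_generalization p x
  have hzη : f z = genericPoint Y := hmaxY _ (hx ▸ hzx.map f.continuous)
  refine ⟨z, ⟨hz, hzη⟩, fun z₂ ⟨hz₂, hz₂η⟩ => ?_⟩
  exact maximal_eq_of_dominant f q hf ⊤ trivial (fun y _ hy => hirr y hy) hz hzη hz₂ hz₂η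

include hirr hdim hf in
/-- If all maximal points are dominant, the source is irreducible of dimension `d + dim Y`. -/
theorem irreducible_and_dim (hall : ∀ z : X, (∀ y, y ⤳ z → y = z) → f z = genericPoint Y) :
    IrreducibleSpace X ∧ topologicalKrullDim X = d + topologicalKrullDim Y := by
  obtain ⟨z, ⟨hz, hzη⟩, huniq⟩ := existsUnique_dominant f q hf d hirr hdim
  have hsp : ∀ x, z ⤳ x := fun x => by
    obtain ⟨η, hηx, hη⟩ := exists_maximal_generalization p x
    rwa [huniq η ⟨hη, hall η hη⟩] at hηx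
  have hcl : closure {z} = (Set.univ : Set X) :=
    Set.eq_univ_of_forall fun x => specializes_iff_mem_closure.1 (hsp x)
  have : IrreducibleSpace X := (irreducibleSpace_def _).2
    (show IsIrreducible (Set.univ : Set X) from hcl ▸ isIrreducible_singleton.closure)
  refine ⟨this, ?_⟩
  rw [topologicalKrullDim_eq_deg_genericPoint q, topologicalKrullDim_eq_deg_genericPoint p,
    ((genericPoint_specializes z).antisymm (hsp _)).eq,
    (component_spec f q hf d hirr hdim hz).2.1, hzη, Nat.add_comm]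
  norm_cast

include hirr hdim hf in
/-- If `f` is closed, all maximal points are dominant. -/
theorem dominant_of_isClosedMap (hcl : IsClosedMap f) {z : X} (hz : ∀ y, y ⤳ z → y = z) :
    f z = genericPoint Y := by
  obtain ⟨z₁, ⟨hz₁, hz₁η⟩, -⟩ := existsUnique_dominant f q hf d hirr hdim
  obtain ⟨U, hzU, hU⟩ := exists_nhd_component p hz
  obtain ⟨c, hcU, -, hc⟩ := exists_closed_mem p hzU
  have hfc : IsClosed ({f c} : Set Y) := by
    rw [closedPoint_iff_deg_eq_zero q]
    have := deg_map_le f q hf c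
    have := (closedPoint_iff_deg_eq_zero p c).1 hc
    omega
  have himg : f c ∈ f '' closure {z₁} := by
    have h1 : f '' closure {z₁} = Set.univ := by
      refine Set.eq_univ_of_forall fun y => ?_
      have hmem : genericPoint Y ∈ f '' closure {z₁} := ⟨z₁, subset_closure rfl, hz₁η⟩
      exact (hcl _ isClosed_closure).closure_subset_iff.2 (Set.singleton_subset_iff.2 hmem)
        (specializes_iff_mem_closure.1 (genericPoint_specializes y))
    rw [h1]; trivial
  obtain ⟨x, hx, hxc⟩ := himg
  have h := (component_spec f q hf d hirr hdim hz₁).2.2 x (specializes_iff_mem_closure.2 hx)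
    (hxc.symm ▸ hfc) c hxc.symm
  rw [← hU c hcU z₁ hz₁ h, hz₁η]

end Groth.Agent.VarDim
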