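import Groth.Agent.VarDim.Local
import Mathlib.AlgebraicGeometry.Fiber
import Mathlib.AlgebraicGeometry.Morphisms.FiniteType
import Mathlib.AlgebraicGeometry.Noetherian

/-!
# Dimension of fibres of morphisms of schemes over a field

`fdeg f x = trdeg κ(x)/κ(f x)`; `deg (f ≫ q) x = deg q (f x) + fdeg f x`, and the dimension of a
fibre is the supremum of `fdeg` over its points.
-/

namespace Groth.Agent.VarDim

open AlgebraicGeometry CategoryTheory Order TopologicalSpace

universe u

set_option backward.isDefEq.respectTransparency.types false in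
instance locallyOfFiniteType_fiberToSpec {X Y : Scheme.{u}} (f : X ⟶ Y) [LocallyOfFiniteType f] (y : Y) :
    LocallyOfFiniteType (f.fiberToSpecResidueField y) :=
  MorphismProperty.pullback_snd _ _ inferInstance

section Relative

variable {X Y Z : Scheme.{u}}

/-- The relative transcendence degree of residue fields. -/
noncomputable def rdeg (f : X ⟶ Y) (x : X) : Cardinal.{u} :=
  letI := (f.residueFieldMap x).hom.toAlgebra
  Algebra.trdeg (Y.residueField (f x)) (X.residueField x)

/-- The relative transcendence degree, as a natural number. -/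
noncomputable def fdeg (f : X ⟶ Y) (x : X) : ℕ := Cardinal.toNat (rdeg f x)

theorem rdeg_comp (f : X ⟶ Y) (g : Y ⟶ Z) (x : X) :
    rdeg (f ≫ g) x = rdeg g (f x) + rdeg f x := by
  letI : Algebra (Z.residueField (g (f x))) (Y.residueField (f x)) :=
    (g.residueFieldMap (f x)).hom.toAlgebra
  letI : Algebra (Y.residueField (f x)) (X.residueField x) := (f.residueFieldMap x).hom.toAlgebra
  letI : Algebra (Z.residueField (g (f x))) (X.residueField x) :=
    ((f ≫ g).residueFieldMap x).hom.toAlgebra
  have : IsScalarTower (Z.residueField (g (f x))) (Y.residueField (f x)) (X.residueField x) :=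
    IsScalarTower.of_algebraMap_eq fun c => by
      show (f ≫ g).residueFieldMap x c = f.residueFieldMap x (g.residueFieldMap (f x) c)
      rw [Scheme.residueFieldMap_comp]
      rfl
  exact (trdeg_add_eq (Z.residueField (g (f x))) (Y.residueField (f x))
    (A := X.residueField x)).symm

theorem rdeg_congr {f g : X ⟶ Y} (h : f = g) (x : X) : rdeg f x = rdeg g x := by subst h; rfl

/-- Preimmersions do not change residue fields. -/
theorem rdeg_preimmersion (f : X ⟶ Y) [IsPreimmersion f] (x : X) : rdeg f x = 0 := by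
  letI := (f.residueFieldMap x).hom.toAlgebra
  have : Algebra.IsAlgebraic (Y.residueField (f x)) (X.residueField x) := by
    refine ⟨fun a => ?_⟩
    obtain ⟨a, rfl⟩ := X.residue_surjective x a
    obtain ⟨b, rfl⟩ := f.stalkMap_surjective x a
    have h := Scheme.residue_residueFieldMap f x
    have h' : f.residueFieldMap x (Y.residue (f x) b) = X.residue x (f.stalkMap x b) :=
      congr($h b)
    rw [← h']
    exact isAlgebraic_algebraMap (Y.residue (f x) b)
  exact trdeg_eq_zero

end Relative

variable {k : Type u} [Field k] {X Y : Scheme.{u}}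

theorem tdeg_comp (f : X ⟶ Y) (q : Y ⟶ Spec (CommRingCat.of k)) (x : X) :
    tdeg (f ≫ q) x = tdeg q (f x) + rdeg f x := by
  letI : Algebra k (Y.residueField (f x)) := (resHom q (f x)).toAlgebra
  letI : Algebra (Y.residueField (f x)) (X.residueField x) := (f.residueFieldMap x).hom.toAlgebra
  letI : Algebra k (X.residueField x) := (resHom (f ≫ q) x).toAlgebra
  have : IsScalarTower k (Y.residueField (f x)) (X.residueField x) :=
    IsScalarTower.of_algebraMap_eq fun c => by
      show X.Γevaluation x (baseMap (f ≫ q) c) = f.residueFieldMap x (Y.Γevaluation (f x) (baseMap q c))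
      rw [Scheme.Γevaluation_naturality_apply]
      rfl
  exact (trdeg_add_eq k (Y.residueField (f x)) (A := X.residueField x)).symm

theorem deg_congr {p q : X ⟶ Spec (CommRingCat.of k)} (h : p = q) (x : X) : deg p x = deg q x := by
  subst h; rfl

section Over

variable (f : X ⟶ Y) (q : Y ⟶ Spec (CommRingCat.of k)) [LocallyOfFiniteType f] [LocallyOfFiniteType q]

include q in
theorem fdeg_eq_rdeg (x : X) : (fdeg f x : Cardinal) = rdeg f x := by
  refine Cardinal.cast_toNat_of_lt_aleph0 ?_
  refine lt_of_le_of_lt ?_ (Cardinal.nat_lt_aleph0 (deg (f ≫ q) x))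
  rw [deg_eq_tdeg, tdeg_comp]
  exact le_add_self

/-- **Additivity of dimension.** -/
theorem deg_comp_eq (x : X) : deg (f ≫ q) x = deg q (f x) + fdeg f x := by
  have h := tdeg_comp f q x
  rw [← deg_eq_tdeg, ← deg_eq_tdeg, ← fdeg_eq_rdeg f q] at h
  exact_mod_cast h

theorem deg_eq_add {p : X ⟶ Spec (CommRingCat.of k)} (h : f ≫ q = p) (x : X) :
    deg p x = deg q (f x) + fdeg f x := by
  rw [← deg_congr h, deg_comp_eq]

omit [LocallyOfFiniteType f] in
theorem deg_map_le {p : X ⟶ Spec (CommRingCat.of k)} [LocallyOfFiniteType p] (h : f ≫ q = p) (x : X) :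
    deg q (f x) ≤ deg p x := by
  have : LocallyOfFiniteType f := by subst h; exact locallyOfFiniteType_of_comp f q
  rw [deg_eq_add f q h]
  omega

omit [LocallyOfFiniteType f] in
theorem tdeg_id (pt : Spec (CommRingCat.of k)) : tdeg (𝟙 (Spec (CommRingCat.of k))) pt = 0 := by
  rw [← deg_eq_tdeg, (closedPoint_iff_deg_eq_zero _ pt).1, Nat.cast_zero]
  exact Set.subsingleton_singleton.isClosed

omit [LocallyOfFiniteType f] in
theorem tdeg_eq_rdeg (p : X ⟶ Spec (CommRingCat.of k)) (x : X) : tdeg p x = rdeg p x := by
  have h := tdeg_comp p (𝟙 _) x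
  rwa [tdeg_id, zero_add, Category.comp_id] at h

/-- Residue transcendence degrees in a fibre. -/
theorem deg_fiber (y : Y) (z : f.fiber y) :
    deg (k := Y.residueField y) (f.fiberToSpecResidueField y) z = fdeg f (f.fiberι y z) := by
  have h := rdeg_congr (f.fiber_fac y) z
  rw [rdeg_comp, rdeg_comp, rdeg_preimmersion (f.fiberι y), rdeg_preimmersion (Y.fromSpecResidueField y), add_zero, zero_add] at h
  rw [fdeg, h, deg]
  exact congrArg Cardinal.toNat (tdeg_eq_rdeg (k := Y.residueField y) (f.fiberToSpecResidueField y) z)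

omit [LocallyOfFiniteType q] in
/-- **The dimension of a fibre.** -/
theorem topologicalKrullDim_fiber (y : Y) :
    topologicalKrullDim (f.fiber y) = ⨆ x : f ⁻¹' {y}, ((fdeg f x.1 : ℕ∞) : WithBot ℕ∞) := by
  have : LocallyOfFiniteType (f.fiberToSpecResidueField y) := inferInstance
  rw [topologicalKrullDim_eq_iSup_deg (k := Y.residueField y) (f.fiberToSpecResidueField y),
    ← (f.fiberHomeo y).toEquiv.iSup_comp (g := fun x : f ⁻¹' {y} => ((fdeg f x.1 : ℕ∞) : WithBot ℕ∞))]
  exact iSup_congr fun z => by rw [deg_fiber f y z]; rfl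

omit [LocallyOfFiniteType q] in
theorem topologicalKrullDim_preimage_singleton (y : Y) :
    topologicalKrullDim (f ⁻¹' {y}) = ⨆ x : f ⁻¹' {y}, ((fdeg f x.1 : ℕ∞) : WithBot ℕ∞) := by
  rw [← topologicalKrullDim_fiber f y]
  exact (IsHomeomorph.topologicalKrullDim_eq _ (f.fiberHomeo y).isHomeomorph).symm

end Over

section Points

variable (p : X ⟶ Spec (CommRingCat.of k)) [LocallyOfFiniteType p]

include p

/-- Every point specializes to a closed point. -/
theorem exists_closed_specialization (x : X) :
    ∃ c, x ⤳ c ∧ IsClosed ({c} : Set X) := by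
  obtain ⟨c, hxc, hmin⟩ := (InvImage.wf (deg p) Nat.lt_wfRel.wf).has_min {c | x ⤳ c} ⟨x, specializes_refl x⟩
  refine ⟨c, hxc, closure_subset_iff_isClosed.1 fun y hy => ?_⟩
  have hcy : c ⤳ y := specializes_iff_mem_closure.2 hy
  by_contra hne
  refine hmin y (hxc.trans hcy) ?_
  exact deg_strictMono p (lt_iff_le_not_ge.2 ⟨hcy, fun h => hne (hcy.antisymm h).eq.symm⟩)

theorem eq_of_specializes_of_deg_le {x y : X} (h : y ⤳ x) (hd : deg p y ≤ deg p x) : y = x := by
  by_contra hne
  exact absurd (deg_strictMono p (lt_iff_le_not_ge.2 ⟨h, fun h' => hne (h.antisymm h').eq⟩)) hd.not_gt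

/-- Every point has a maximal generalization. -/
theorem exists_maximal_generalization (x : X) :
    ∃ η, η ⤳ x ∧ ∀ y, y ⤳ η → y = η := by
  obtain ⟨b, -, ⟨η, hη, hηd⟩, hmax⟩ := exists_deg_add_stalk p x
  exact ⟨η, hη, fun y hy => eq_of_specializes_of_deg_le p hy (hηd ▸ hmax y (hy.trans hη))⟩

/-- In finite type schemes the dimension is attained. -/
theorem exists_deg_eq_topologicalKrullDim [CompactSpace X] [Nonempty X] :
    ∃ η : X, (∀ y, y ⤳ η → y = η) ∧ (∀ x, deg p x ≤ deg p η) ∧
      topologicalKrullDim X = ((deg p η : ℕ∞) : WithBot ℕ∞) := by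
  classical
  have : IsLocallyNoetherian X := LocallyOfFiniteType.isLocallyNoetherian p
  have : IsNoetherian X := { }
  have hfin : (irreducibleComponents X).Finite := TopologicalSpace.NoetherianSpace.finite_irreducibleComponents
  have hgen : ∀ x : X, ∃ g, g ⤳ x ∧ ∃ h : IsIrreducible (irreducibleComponent x), h.genericPoint = g := by
    intro x
    refine ⟨_, ?_, isIrreducible_irreducibleComponent, rfl⟩
    rw [specializes_iff_mem_closure, isIrreducible_irreducibleComponent.genericPoint_closure_eq,
      isClosed_irreducibleComponent.closure_eq]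
    exact mem_irreducibleComponent
  have hG : (Set.range fun C : irreducibleComponents X => (C.2.1).genericPoint).Finite := by
    have := hfin.to_subtype
    exact Set.finite_range _
  obtain ⟨x₀⟩ := ‹Nonempty X›
  obtain ⟨η, hηG, hη⟩ := hG.exists_maximalFor (deg p) _
    ⟨_, ⟨⟨irreducibleComponent x₀, irreducibleComponent_mem_irreducibleComponents _⟩, rfl⟩⟩
  have hall : ∀ x, deg p x ≤ deg p η := fun x => by
    obtain ⟨g, hg, hh, hgen⟩ := hgen x
    refine (deg_le_of_specializes p hg).trans ?_
    rcases le_total (deg p g) (deg p η) with h | h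
    · exact h
    · exact hη ⟨⟨irreducibleComponent x, irreducibleComponent_mem_irreducibleComponents _⟩, hgen⟩ h
  refine ⟨η, fun y hy => eq_of_specializes_of_deg_le p hy (hall y), hall, ?_⟩
  rw [topologicalKrullDim_eq_iSup_deg p]
  exact le_antisymm (iSup_le fun x => WithBot.coe_le_coe.2 (Nat.cast_le.2 (hall x))) (le_iSup_of_le η le_rfl)

/-- Maximal points of the closure of the image are in the image. -/
theorem mem_range_of_maximal [CompactSpace X] (f : X ⟶ Y) {η : Y}
    (hη : η ∈ closure (Set.range f)) (hmax : ∀ y, y ⤳ η → y = η) : η ∈ Set.range f := by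
  classical
  have : IsLocallyNoetherian X := LocallyOfFiniteType.isLocallyNoetherian p
  have : IsNoetherian X := { }
  have hfin : (irreducibleComponents X).Finite := TopologicalSpace.NoetherianSpace.finite_irreducibleComponents
  have hrange : closure (Set.range f) ⊆ ⋃ C ∈ irreducibleComponents X, closure (f '' C) := by
    refine closure_minimal ?_ (hfin.isClosed_biUnion fun C _ => isClosed_closure)
    rintro _ ⟨x, rfl⟩
    exact Set.mem_biUnion (irreducibleComponent_mem_irreducibleComponents x)
      (subset_closure ⟨x, mem_irreducibleComponent, rfl⟩)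
  obtain ⟨C, hC, hηC⟩ := Set.mem_iUnion₂.1 (hrange hη)
  refine ⟨hC.1.genericPoint, hmax _ ?_⟩
  rw [specializes_iff_mem_closure]
  refine closure_minimal ?_ isClosed_closure hηC
  rintro _ ⟨x, hx, rfl⟩
  refine specializes_iff_mem_closure.1 (Specializes.map ?_ f.continuous)
  rw [specializes_iff_mem_closure, hC.1.genericPoint_closure_eq,
    (isClosed_of_mem_irreducibleComponents C hC).closure_eq]
  exact hx

end Points

section Fibre

variable (f : X ⟶ Y) [LocallyOfFiniteType f]

/-- A nonempty fibre contains a point algebraic over its image. -/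
theorem exists_fdeg_eq_zero {y : Y} (hy : y ∈ Set.range f) : ∃ x, f x = y ∧ fdeg f x = 0 := by
  obtain ⟨x, rfl⟩ := hy
  have : LocallyOfFiniteType (f.fiberToSpecResidueField (f x)) := inferInstance
  obtain ⟨c, -, hc⟩ := exists_closed_specialization (k := Y.residueField (f x))
    (f.fiberToSpecResidueField (f x)) (f.asFiber x)
  refine ⟨f.fiberι (f x) c, (f.fiberHomeo (f x) c).2, ?_⟩
  rw [← deg_fiber, ← closedPoint_iff_deg_eq_zero]
  exact hc

end Fibre

end Groth.Agent.VarDim
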