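import Mathlib.RingTheory.NoetherNormalization
import Mathlib.RingTheory.KrullDimension.Polynomial
import Mathlib.RingTheory.KrullDimension.Field
import Mathlib.RingTheory.KrullDimension.NonZeroDivisors
import Mathlib.RingTheory.Ideal.GoingUp
import Mathlib.RingTheory.Ideal.HasGoingUp
import Mathlib.RingTheory.IntegralClosure.GoingDown
import Mathlib.RingTheory.AlgebraicIndependent.TranscendenceBasis
import Mathlib.RingTheory.AlgebraicIndependent.Transcendental
import Mathlib.RingTheory.Polynomial.UniqueFactorization
import Mathlib.RingTheory.Polynomial.RationalRoot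
import Mathlib.Algebra.MvPolynomial.NoZeroDivisors
import Mathlib.RingTheory.Spectrum.Prime.RingHom
import Mathlib.RingTheory.Spectrum.Prime.Topology
import Mathlib.RingTheory.Ideal.Quotient.Noetherian
import Mathlib.RingTheory.FiniteType

/-!
# Dimension theory of finitely generated algebras over a field

`dim A = trdeg A` for a finitely generated domain, and `ht p + dim A/p = dim A`.
-/

namespace Groth.Agent.VarDim

open Order

universe u v

section Order

variable {R : Type*} [CommRing R]

theorem coheight_eq_ringKrullDim_quotient (p : PrimeSpectrum R) :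
    (coheight p : WithBot ℕ∞) = ringKrullDim (R ⧸ p.asIdeal) := by
  rw [coheight_eq_krullDim_Ici, ringKrullDim_quotient]
  refine Order.krullDim_eq_of_orderIso (OrderIso.setCongr _ _ ?_)
  ext q
  simp [PrimeSpectrum.mem_zeroLocus, PrimeSpectrum.asIdeal_le_asIdeal]

theorem height_add_coheight_le (p : PrimeSpectrum R) :
    ((height p + coheight p : ℕ∞) : WithBot ℕ∞) ≤ ringKrullDim R := by
  have : Nonempty (PrimeSpectrum R) := ⟨p⟩
  rw [ringKrullDim, krullDim_eq_iSup_height_add_coheight_of_nonempty, WithBot.coe_le_coe]
  exact le_iSup (fun a : PrimeSpectrum R => height a + coheight a) p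

end Order

section Integral

variable {R S : Type*} [CommRing R] [CommRing S] [Algebra R S] [Algebra.IsIntegral R S]

theorem strictMono_comap_of_isIntegral :
    StrictMono (PrimeSpectrum.comap (algebraMap R S)) := fun _ _ h =>
  Ideal.IsIntegral.comap_lt_comap (R := R) h

/-- An injective integral extension does not change the dimension. -/
theorem ringKrullDim_eq_of_isIntegral [FaithfulSMul R S] : ringKrullDim S = ringKrullDim R := by
  refine le_antisymm (Order.krullDim_le_of_strictMono _ strictMono_comap_of_isIntegral) ?_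
  refine iSup_le fun l => ?_
  obtain ⟨P, hP⟩ := Algebra.IsIntegral.comap_surjective (R := R) (S := S) l.head
  have : P.asIdeal.LiesOver l.head.asIdeal := ⟨by rw [← hP]; rfl⟩
  obtain ⟨L, hL, -⟩ := Ideal.exists_ltSeries_of_hasGoingUp l P.asIdeal
  exact le_iSup_of_le L (by rw [hL])

theorem coheight_comap (P : PrimeSpectrum S) :
    coheight (PrimeSpectrum.comap (algebraMap R S) P) = coheight P := by
  refine le_antisymm ?_ (coheight_le_coheight_apply_of_strictMono _ strictMono_comap_of_isIntegral P)
  refine coheight_le fun l hl => ?_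
  have : P.asIdeal.LiesOver l.head.asIdeal := ⟨by rw [hl]; rfl⟩
  obtain ⟨L, hL, hhead, -⟩ := Ideal.exists_ltSeries_of_hasGoingUp l P.asIdeal
  rw [← hL]
  exact length_le_coheight (le_of_eq hhead.symm)

theorem height_comap [Algebra.HasGoingDown R S] (P : PrimeSpectrum S) :
    height (PrimeSpectrum.comap (algebraMap R S) P) = height P := by
  refine le_antisymm ?_ (height_le_height_apply_of_strictMono _ strictMono_comap_of_isIntegral P)
  refine height_le fun l hl => ?_
  have : P.asIdeal.LiesOver l.last.asIdeal := ⟨by rw [hl]; rfl⟩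
  obtain ⟨L, hL, hlast, -⟩ := Ideal.exists_ltSeries_of_hasGoingDown l P.asIdeal
  rw [← hL]
  exact length_le_height (le_of_eq hlast)

end Integral

section Field

variable (k : Type v) [Field k]

/-- **`dim = trdeg`** for finitely generated domains over a field. -/
theorem exists_dim_eq_trdeg (A : Type u) [CommRing A] [IsDomain A] [Algebra k A]
    [Algebra.FiniteType k A] :
    ∃ n : ℕ, ringKrullDim A = n ∧ Algebra.trdeg k A = n := by
  obtain ⟨s, g, hinj, hint⟩ := exists_integral_inj_algHom_of_fg k A
  letI : Algebra (MvPolynomial (Fin s) k) A := g.toRingHom.toAlgebra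
  have : IsScalarTower k (MvPolynomial (Fin s) k) A :=
    IsScalarTower.of_algebraMap_eq fun x => (g.commutes x).symm
  have : FaithfulSMul (MvPolynomial (Fin s) k) A := (faithfulSMul_iff_algebraMap_injective _ _).2 hinj
  have hI : Algebra.IsIntegral (MvPolynomial (Fin s) k) A := ⟨hint⟩
  refine ⟨s, ?_, ?_⟩
  · rw [ringKrullDim_eq_of_isIntegral (R := MvPolynomial (Fin s) k) (S := A),
      MvPolynomial.ringKrullDim_of_isNoetherianRing, ringKrullDim_eq_zero_of_field, zero_add,
      Nat.card_fin]
  · have := lift_trdeg_add_eq k (MvPolynomial (Fin s) k) A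
    rw [MvPolynomial.trdeg_of_isDomain, trdeg_eq_zero (R := MvPolynomial (Fin s) k), Cardinal.lift_zero, add_zero] at this
    simpa using this.symm

end Field

section Formula

variable (k : Type u) [Field k]

/-- A height-one principal prime of a polynomial ring has quotient of dimension one less. -/
theorem ringKrullDim_quotient_span_prime {n : ℕ} {f : MvPolynomial (Fin n) k} (hf : Prime f) :
    ∃ m : ℕ, m + 1 = n ∧ ringKrullDim (MvPolynomial (Fin n) k ⧸ Ideal.span {f}) = m := by
  classical
  have hp : (Ideal.span {f}).IsPrime := (Ideal.span_singleton_prime hf.ne_zero).2 hf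
  obtain ⟨m, hm, hmt⟩ := exists_dim_eq_trdeg k (MvPolynomial (Fin n) k ⧸ Ideal.span {f})
  refine ⟨m, le_antisymm ?_ ?_, hm⟩
  · have h := ringKrullDim_quotient_succ_le_of_nonZeroDivisor
      (mem_nonZeroDivisors_of_ne_zero hf.ne_zero)
    rw [hm, MvPolynomial.ringKrullDim_of_isNoetherianRing, ringKrullDim_eq_zero_of_field, zero_add,
      Nat.card_fin] at h
    exact_mod_cast h
  obtain ⟨i, hi⟩ : ∃ i, MvPolynomial.degreeOf i f ≠ 0 := by
    by_contra! h
    have hv : f.vars = ∅ := Finset.eq_empty_of_forall_notMem fun i hi =>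
      (MvPolynomial.mem_vars_iff_degreeOf_ne_zero.1 hi) (h i)
    obtain ⟨c, rfl⟩ : ∃ c, f = MvPolynomial.C c :=
      ⟨_, MvPolynomial.totalDegree_eq_zero_iff_eq_C.1
        ((MvPolynomial.totalDegree_eq_zero_iff _ _).2 fun d hd j => by
          by_contra hj
          have : j ∈ f.vars := MvPolynomial.mem_vars j |>.2 ⟨d, hd, Finsupp.mem_support_iff.2 hj⟩
          simp [hv] at this)⟩
    exact hf.not_isUnit ((Ne.isUnit (fun hc => hf.ne_zero (by rw [hc, map_zero]))).map MvPolynomial.C)
  let g : MvPolynomial {j : Fin n // j ≠ i} k →ₐ[k] MvPolynomial (Fin n) k ⧸ Ideal.span {f} :=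
    (Ideal.Quotient.mkₐ k _).comp (MvPolynomial.rename Subtype.val)
  have hg : Function.Injective g := by
    rw [injective_iff_map_eq_zero]
    intro x hx
    obtain ⟨h, hh⟩ := Ideal.mem_span_singleton.1 (Ideal.Quotient.eq_zero_iff_mem.1 hx)
    by_contra hx0
    have hy0 : MvPolynomial.rename (Subtype.val : {j : Fin n // j ≠ i} → Fin n) x ≠ 0 := fun h0 =>
      hx0 (MvPolynomial.rename_injective _ Subtype.val_injective (h0.trans (map_zero _).symm))
    have h1 : MvPolynomial.degreeOf i (MvPolynomial.rename
        (Subtype.val : {j : Fin n // j ≠ i} → Fin n) x) = 0 := by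
      by_contra h2
      obtain ⟨j, -, hj⟩ := Finset.mem_image.1 (MvPolynomial.vars_rename _ x
        (MvPolynomial.mem_vars_iff_degreeOf_ne_zero.2 h2))
      exact j.2 hj
    have hh' : MvPolynomial.rename (Subtype.val : {j : Fin n // j ≠ i} → Fin n) x = f * h := hh
    rw [hh'] at h1 hy0
    rw [MvPolynomial.degreeOf_mul_eq hf.ne_zero (right_ne_zero_of_mul hy0)] at h1
    omega
  have hle := trdeg_le_of_injective g hg
  rw [MvPolynomial.trdeg_of_isDomain, hmt, Cardinal.mk_fintype, Cardinal.lift_natCast, Nat.cast_le,
    Fintype.card_subtype_compl, Fintype.card_fin, Fintype.card_subtype_eq] at hle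
  omega

/-- **The dimension formula.** -/
theorem height_add_coheight_eq (n : ℕ) : ∀ (A : Type u) [CommRing A] [IsDomain A] [Algebra k A]
    [Algebra.FiniteType k A], ringKrullDim A = n → ∀ p : PrimeSpectrum A,
    height p + coheight p = n := by
  induction n using Nat.strong_induction_on with
  | h n ih =>
    intro A _ _ _ _ hn p
    obtain ⟨s, g, hinj, hint⟩ := exists_integral_inj_algHom_of_fg k A
    letI : Algebra (MvPolynomial (Fin s) k) A := g.toRingHom.toAlgebra
    have : FaithfulSMul (MvPolynomial (Fin s) k) A :=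
      (faithfulSMul_iff_algebraMap_injective _ _).2 hinj
    have hI : Algebra.IsIntegral (MvPolynomial (Fin s) k) A := ⟨hint⟩
    have hsn : s = n := by
      rw [ringKrullDim_eq_of_isIntegral (R := MvPolynomial (Fin s) k) (S := A),
        MvPolynomial.ringKrullDim_of_isNoetherianRing, ringKrullDim_eq_zero_of_field, zero_add,
        Nat.card_fin] at hn
      exact_mod_cast hn
    subst hsn
    rw [← height_comap (R := MvPolynomial (Fin s) k) p, ← coheight_comap (R := MvPolynomial (Fin s) k) p]
    generalize PrimeSpectrum.comap (algebraMap (MvPolynomial (Fin s) k) A) p = q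
    clear! A
    have hP : ringKrullDim (MvPolynomial (Fin s) k) = s := by
      rw [MvPolynomial.ringKrullDim_of_isNoetherianRing, ringKrullDim_eq_zero_of_field, zero_add,
        Nat.card_fin]
    refine le_antisymm ?_ ?_
    · have := height_add_coheight_le q
      rw [hP] at this
      exact WithBot.coe_le_coe.1 this
    by_cases hq : q.asIdeal = ⊥
    · have h1 : (coheight q : WithBot ℕ∞) = s := by
        rw [coheight_eq_ringKrullDim_quotient, hq,
          ringKrullDim_eq_of_ringEquiv (RingEquiv.quotientBot _), hP]
      refine le_add_left ?_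
      exact (WithBot.coe_inj.1 (h1.trans rfl)).ge
    obtain ⟨f, hfq, hf⟩ := Ideal.IsPrime.exists_mem_prime_of_ne_bot q.2 hq
    obtain ⟨m, hms, hm⟩ := ringKrullDim_quotient_span_prime k hf
    have hp : (Ideal.span {f}).IsPrime := (Ideal.span_singleton_prime hf.ne_zero).2 hf
    let π : MvPolynomial (Fin s) k →+* MvPolynomial (Fin s) k ⧸ Ideal.span {f} := Ideal.Quotient.mk _
    have hle : Ideal.span {f} ≤ q.asIdeal := (Ideal.span_singleton_le_iff_mem _).2 hfq
    let q' : PrimeSpectrum (MvPolynomial (Fin s) k ⧸ Ideal.span {f}) :=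
      ⟨q.asIdeal.map π, Ideal.map_isPrime_of_surjective Ideal.Quotient.mk_surjective (by rwa [Ideal.mk_ker])⟩
    have hq' : PrimeSpectrum.comap π q' = q := PrimeSpectrum.ext (by
      show (q.asIdeal.map π).comap π = q.asIdeal
      rw [Ideal.comap_map_of_surjective π Ideal.Quotient.mk_surjective, sup_eq_left.2]
      rwa [← RingHom.ker_eq_comap_bot, Ideal.mk_ker])
    have hmono : StrictMono (PrimeSpectrum.comap π) :=
      RingHom.strictMono_comap_of_surjective Ideal.Quotient.mk_surjective
    have hco : coheight q' ≤ coheight q := hq' ▸ coheight_le_coheight_apply_of_strictMono _ hmono q'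
    have hht : height q' + 1 ≤ height q := by
      have hfin : height q' ≠ ⊤ := fun h => by
        have := height_le_krullDim q'
        rw [h] at this
        rw [show Order.krullDim _ = ringKrullDim _ from rfl, hm] at this
        exact absurd (WithBot.coe_le_coe.1 this) (by simp)
      obtain ⟨h, hh⟩ := ENat.ne_top_iff_exists.1 hfin
      obtain ⟨l, hl, hlen⟩ := exists_series_of_height_eq_coe q' hh.symm
      let b : PrimeSpectrum (MvPolynomial (Fin s) k) := ⟨⊥, Ideal.isPrime_bot⟩
      have hlt : b < (l.map (PrimeSpectrum.comap π) hmono).head := by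
        refine PrimeSpectrum.asIdeal_lt_asIdeal _ _ |>.1 ?_
        refine bot_lt_iff_ne_bot.2 fun h0 => hf.ne_zero ?_
        have : f ∈ (l.head.asIdeal).comap π := by
          rw [Ideal.mem_comap, Ideal.Quotient.eq_zero_iff_mem.2 (Ideal.mem_span_singleton_self f)]
          exact zero_mem _
        rw [LTSeries.head_map] at h0
        rw [show (l.head.asIdeal).comap π = ⊥ from h0] at this
        exact this
      have := length_le_height (p := (l.map (PrimeSpectrum.comap π) hmono).cons b hlt) (x := q)
        (by rw [RelSeries.last_cons, LTSeries.last_map, hl, hq'])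
      rw [← hh, ← hlen]
      simpa using this
    have hIH := ih m (by omega) _ hm q'
    calc (s : ℕ∞) = height q' + coheight q' + 1 := by rw [hIH, ← hms]; push_cast; rfl
      _ = height q' + 1 + coheight q' := by ring
      _ ≤ height q + coheight q := add_le_add hht hco

end Formula

end Groth.Agent.VarDim
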