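import Groth.Agent.VarDim.Basic
import Mathlib.AlgebraicGeometry.Properties
import Mathlib.AlgebraicGeometry.ResidueField
import Mathlib.AlgebraicGeometry.Morphisms.FiniteType
import Mathlib.RingTheory.Localization.FractionRing
import Mathlib.RingTheory.Algebraic.Integral
import Mathlib.Topology.KrullDimension
import Mathlib.Topology.Sober
import Mathlib.SetTheory.Cardinal.ToNat

/-!
# Dimension of schemes locally of finite type over a field

For a point `x`, the dimension of its closure (`Order.height x` for the specialization order) is the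
transcendence degree of its residue field.
-/

namespace Groth.Agent.VarDim

open AlgebraicGeometry CategoryTheory Order

universe u

variable {k : Type u} [Field k] {X : Scheme.{u}} (f : X ⟶ Spec (CommRingCat.of k))

/-- The structure map to global functions. -/
noncomputable def baseMap : k →+* Γ(X, ⊤) :=
  ((Scheme.ΓSpecIso (CommRingCat.of k)).inv ≫ f.appTop).hom

/-- The structure map to the residue field. -/
noncomputable def resHom (x : X) : k →+* X.residueField x :=
  (X.residue x).hom.comp ((X.presheaf.germ ⊤ x trivial).hom.comp (baseMap f))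

/-- The transcendence degree of the residue field. -/
noncomputable def tdeg (x : X) : Cardinal.{u} :=
  letI := (resHom f x).toAlgebra
  Algebra.trdeg k (X.residueField x)

/-- The transcendence degree of the residue field, as a natural number. -/
noncomputable def deg (x : X) : ℕ := Cardinal.toNat (tdeg f x)

/-- On an affine open, the point `fromSpec p` has residue transcendence degree `dim (A / p)`. -/
theorem tdeg_eq_coheight [LocallyOfFiniteType f] {U : X.Opens} (hU : IsAffineOpen U)
    (p : PrimeSpectrum Γ(X, U)) :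
    ∃ n : ℕ, tdeg f (hU.fromSpec p) = n ∧ coheight p = n := by
  set x := hU.fromSpec p with hx
  have hxU : x ∈ U := by
    have : x ∈ Set.range hU.fromSpec := ⟨p, rfl⟩
    rwa [hU.range_fromSpec] at this
  letI : Algebra k Γ(X, U) :=
    ((X.presheaf.map (homOfLE (le_top (a := U))).op).hom.comp (baseMap f)).toAlgebra
  letI : Algebra k (X.residueField x) := (resHom f x).toAlgebra
  have : Algebra.FiniteType k Γ(X, U) := by
    have h := f.finiteType_appLE (isAffineOpen_top (Spec (CommRingCat.of k))) hU (by simp)
    have h' := h.comp_surjective (g := RingHom.id _) Function.surjective_id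
    have h2 : ((f.appLE ⊤ U (by simp)).hom.comp (Scheme.ΓSpecIso (CommRingCat.of k)).inv.hom).FiniteType :=
      h.comp (RingHom.FiniteType.of_surjective _
        (Scheme.ΓSpecIso (CommRingCat.of k)).symm.commRingCatIsoToRingEquiv.surjective)
    have he : (f.appLE ⊤ U (by simp)).hom.comp (Scheme.ΓSpecIso (CommRingCat.of k)).inv.hom =
        algebraMap k Γ(X, U) := rfl
    rw [he] at h2
    exact RingHom.finiteType_algebraMap.1 h2
  obtain ⟨n, hn, hn'⟩ := exists_dim_eq_trdeg k (Γ(X, U) ⧸ p.asIdeal)
  refine ⟨n, ?_, WithBot.coe_inj.1 ((coheight_eq_ringKrullDim_quotient p).trans hn)⟩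
  let ev : Γ(X, U) →ₐ[k] X.residueField x :=
    { (X.evaluation U x hxU).hom with
      commutes' := fun c => by
        show X.residue x (X.presheaf.germ U x hxU
          (X.presheaf.map (homOfLE (le_top (a := U))).op (baseMap f c))) =
            X.residue x (X.presheaf.germ ⊤ x trivial (baseMap f c))
        rw [X.presheaf.germ_res_apply] }
  have hker : ∀ a, ev a = 0 ↔ a ∈ p.asIdeal := fun a => by
    show X.evaluation U x hxU a = 0 ↔ _
    rw [Scheme.evaluation_eq_zero_iff_notMem_basicOpen]
    have : x ∈ X.basicOpen a ↔ p ∈ (hU.fromSpec ⁻¹ᵁ X.basicOpen a) := Iff.rfl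
    rw [this, hU.fromSpec_preimage_basicOpen]
    exact not_not
  let ι : Γ(X, U) ⧸ p.asIdeal →ₐ[k] X.residueField x :=
    Ideal.Quotient.liftₐ p.asIdeal ev fun a ha => (hker a).2 ha
  have hι : Function.Injective ι := by
    rw [injective_iff_map_eq_zero]
    intro a ha
    obtain ⟨a, rfl⟩ := Ideal.Quotient.mk_surjective a
    exact Ideal.Quotient.eq_zero_iff_mem.2 ((hker a).1 ha)
  letI : Algebra (Γ(X, U) ⧸ p.asIdeal) (X.residueField x) := ι.toRingHom.toAlgebra
  have : IsScalarTower k (Γ(X, U) ⧸ p.asIdeal) (X.residueField x) :=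
    IsScalarTower.of_algebraMap_eq fun c => (ι.commutes c).symm
  have : FaithfulSMul (Γ(X, U) ⧸ p.asIdeal) (X.residueField x) :=
    (faithfulSMul_iff_algebraMap_injective _ _).2 hι
  have : IsFractionRing (Γ(X, U) ⧸ p.asIdeal) (X.residueField x) := by
    refine IsFractionRing.of_field _ _ fun z => ?_
    obtain ⟨z, rfl⟩ := X.residue_surjective x z
    letI := TopCat.Presheaf.algebra_section_stalk X.presheaf (U := U) ⟨x, hxU⟩
    have := hU.isLocalization_stalk ⟨x, hxU⟩
    obtain ⟨⟨a, s⟩, has⟩ := IsLocalization.surj (hU.primeIdealOf ⟨x, hxU⟩).asIdeal.primeCompl z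
    have has' : X.residue x z * ev s = ev a := by
      have := congrArg (X.residue x) has
      rwa [map_mul] at this
    have hs : ev s ≠ 0 := fun h => by
      refine s.2 ?_
      have hp : hU.primeIdealOf ⟨x, hxU⟩ = p :=
        hU.fromSpec.isOpenEmbedding.injective (hU.fromSpec_primeIdealOf ⟨x, hxU⟩)
      have hmem := (hker _).1 h
      rw [← hp] at hmem
      exact hmem
    exact ⟨Ideal.Quotient.mk _ a, Ideal.Quotient.mk _ s, eq_div_of_mul_eq hs has'⟩
  have : Algebra.IsAlgebraic (Γ(X, U) ⧸ p.asIdeal) (X.residueField x) :=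
    IsLocalization.isAlgebraic _ (nonZeroDivisors (Γ(X, U) ⧸ p.asIdeal))
  show Algebra.trdeg k (X.residueField x) = n
  rw [← trdeg_add_eq k (Γ(X, U) ⧸ p.asIdeal), hn', trdeg_eq_zero, add_zero]

variable [LocallyOfFiniteType f]

theorem deg_eq_coheight {U : X.Opens} (hU : IsAffineOpen U) (p : PrimeSpectrum Γ(X, U)) :
    coheight p = (deg f (hU.fromSpec p) : ℕ∞) := by
  obtain ⟨n, h1, h2⟩ := tdeg_eq_coheight f hU p
  rw [h2, deg, h1, Cardinal.toNat_natCast]

theorem deg_eq_tdeg (x : X) : (deg f x : Cardinal) = tdeg f x := by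
  obtain ⟨U, hU, hx, -⟩ := exists_isAffineOpen_mem_and_subset (x := x) (U := ⊤) trivial
  obtain ⟨p, rfl⟩ : ∃ p : PrimeSpectrum Γ(X, U), hU.fromSpec p = x :=
    show x ∈ Set.range hU.fromSpec by rw [hU.range_fromSpec]; exact hx
  obtain ⟨n, h1, -⟩ := tdeg_eq_coheight f hU p
  rw [deg, h1, Cardinal.toNat_natCast]

/-- `deg` is strictly increasing along generalization. -/
theorem deg_strictMono : StrictMono (deg f) := by
  intro y x hyx
  obtain ⟨hle, hnle⟩ := lt_iff_le_not_ge.1 hyx
  have hxy : x ⤳ y := hle
  obtain ⟨U, hU, hy, -⟩ := exists_isAffineOpen_mem_and_subset (x := y) (U := ⊤) trivial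
  obtain ⟨q, rfl⟩ : ∃ q : PrimeSpectrum Γ(X, U), hU.fromSpec q = y :=
    show y ∈ Set.range hU.fromSpec by rw [hU.range_fromSpec]; exact hy
  obtain ⟨p, rfl⟩ : ∃ p : PrimeSpectrum Γ(X, U), hU.fromSpec p = x :=
    show x ∈ Set.range hU.fromSpec by rw [hU.range_fromSpec]; exact hxy.mem_open U.2 hy
  have hpq : p ⤳ q := hU.fromSpec.isOpenEmbedding.isInducing.specializes_iff.1 hxy
  have hlt : p < q := lt_of_le_of_ne ((PrimeSpectrum.le_iff_specializes _ _).2 hpq) fun h => by
    subst h
    exact hnle (specializes_refl _)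
  have h := coheight_add_one_le hlt
  rw [deg_eq_coheight f hU, deg_eq_coheight f hU] at h
  exact_mod_cast h

/-- **The dimension of the closure of a point is the transcendence degree of its residue field.** -/
theorem height_eq_deg (x : X) : height x = (deg f x : ℕ∞) := by
  refine le_antisymm ?_ ?_
  · have := height_le_height_apply_of_strictMono _ (deg_strictMono f) x
    rwa [height_nat] at this
  obtain ⟨U, hU, hx, -⟩ := exists_isAffineOpen_mem_and_subset (x := x) (U := ⊤) trivial
  obtain ⟨p, rfl⟩ : ∃ p : PrimeSpectrum Γ(X, U), hU.fromSpec p = x :=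
    show x ∈ Set.range hU.fromSpec by rw [hU.range_fromSpec]; exact hx
  rw [← deg_eq_coheight f hU]
  let g : (PrimeSpectrum Γ(X, U))ᵒᵈ → X := fun q => hU.fromSpec (OrderDual.ofDual q)
  have hg : StrictMono g := fun a b hab => by
    have hba : OrderDual.ofDual b < OrderDual.ofDual a := hab
    refine lt_iff_le_not_ge.2 ⟨((PrimeSpectrum.le_iff_specializes _ _).1 hba.le).map hU.fromSpec.continuous, ?_⟩
    intro h
    exact not_le_of_gt hba ((PrimeSpectrum.le_iff_specializes _ _).2
      (hU.fromSpec.isOpenEmbedding.isInducing.specializes_iff.1 h))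
  exact height_le_height_apply_of_strictMono g hg (OrderDual.toDual p)

omit [LocallyOfFiniteType f] in
/-- The residue transcendence degree does not change along morphisms inducing isomorphisms on
residue fields. -/
theorem deg_comp {U : Scheme.{u}} (j : U ⟶ X) (u : U) [IsIso (j.residueFieldMap u)]
    [LocallyOfFiniteType (j ≫ f)] : deg (j ≫ f) u = deg f (j u) := by
  rw [deg, deg]
  congr 1
  letI : Algebra k (X.residueField (j u)) := (resHom f (j u)).toAlgebra
  letI : Algebra k (U.residueField u) := (resHom (j ≫ f) u).toAlgebra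
  let e : X.residueField (j u) ≃ₐ[k] U.residueField u :=
    AlgEquiv.ofRingEquiv (f := (asIso (j.residueFieldMap u)).commRingCatIsoToRingEquiv) fun c => by
      show j.residueFieldMap u (X.Γevaluation (j u) (baseMap f c)) =
        U.Γevaluation u (baseMap (j ≫ f) c)
      rw [Scheme.Γevaluation_naturality_apply]
      rfl
  show Algebra.trdeg k (U.residueField u) = Algebra.trdeg k (X.residueField (j u))
  exact e.trdeg_eq.symm

theorem closedPoint_iff_deg_eq_zero (x : X) : IsClosed ({x} : Set X) ↔ deg f x = 0 := by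
  have h := height_eq_deg f x
  rw [show deg f x = 0 ↔ ((deg f x : ℕ) : ℕ∞) = 0 from Nat.cast_eq_zero.symm, ← h, height_eq_zero]
  constructor
  · intro hc y hy
    have hy' : x ⤳ y := hy
    rw [show y = x from hy'.mem_closed hc rfl]
  · intro hmin
    refine closure_subset_iff_isClosed.1 fun y hy => ?_
    have hxy : x ⤳ y := specializes_iff_mem_closure.2 hy
    exact (Specializes.antisymm hxy (show y ⤳ x from hmin hxy)).eq.symm

end Groth.Agent.VarDim
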